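import Mathlib.RingTheory.Smooth.StandardSmooth
import Mathlib.RingTheory.RingHom.LocallyStandardSmooth
import Mathlib.RingTheory.Polynomial.Basic
import Mathlib.Algebra.MvPolynomial.PDeriv

universe u

open MvPolynomial

namespace Groth.Agent.Ind91

/-- Etale algebras lift along quotient maps. -/
theorem exists_etale_lift (A : Type u) [CommRing A] (I : Ideal A) (B : Type u) [CommRing B]
    [Algebra A B] [Algebra (A ⧸ I) B] [IsScalarTower A (A ⧸ I) B] [Algebra.Etale (A ⧸ I) B] :
    ∃ (W : Type u) (_ : CommRing W) (_ : Algebra A W) (π : W →ₐ[A] B),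
      Algebra.Etale A W ∧ Function.Surjective π ∧ RingHom.ker π = I.map (algebraMap A W) := by
  obtain ⟨ι, σ, _, _, P, hP⟩ := (Algebra.Etale.iff_isStandardSmoothOfRelativeDimension_zero.1
    (inferInstance : Algebra.Etale (A ⧸ I) B)).out
  classical
  have := Fintype.ofFinite σ
  let red := MvPolynomial.map (σ := ι) (Ideal.Quotient.mk I)
  have hred : Function.Surjective red := MvPolynomial.map_surjective _ Ideal.Quotient.mk_surjective
  choose v hv using fun j => hred (P.relation j)
  let S₀ := MvPolynomial ι A ⧸ Ideal.span (Set.range v)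
  let Q : Algebra.PreSubmersivePresentation A S₀ ι σ :=
    Algebra.PreSubmersivePresentation.naive P.map P.map_inj
  let d : S₀ := Q.jacobian
  let W := Localization.Away d
  have hev : ∀ p : MvPolynomial ι A, MvPolynomial.aeval P.val (red p) =
      MvPolynomial.aeval P.val p := fun p => by
    rw [show red p = MvPolynomial.map (Ideal.Quotient.mk I) p from rfl]
    rw [← Ideal.Quotient.algebraMap_eq, MvPolynomial.aeval_map_algebraMap]
  have hker₀ : ∀ p ∈ Ideal.span (Set.range v), MvPolynomial.aeval P.val p = (0 : B) := by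
    intro p hp
    refine (Ideal.span_le (I := RingHom.ker (MvPolynomial.aeval P.val : MvPolynomial ι A →ₐ[A] B))).2
      ?_ hp
    rintro _ ⟨j, rfl⟩
    rw [SetLike.mem_coe, RingHom.mem_ker, ← hev, hv, P.aeval_val_relation]
  let π₀ : S₀ →ₐ[A] B := Ideal.Quotient.liftₐ _ (MvPolynomial.aeval P.val) hker₀
  have hπ₀ : Function.Surjective π₀ := fun b => by
    obtain ⟨p, hp⟩ := P.algebraMap_surjective b
    obtain ⟨q, rfl⟩ := hred p
    refine ⟨Ideal.Quotient.mk _ q, ?_⟩
    show MvPolynomial.aeval P.val q = b
    rw [← hev, ← hp, P.algebraMap_apply]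
  have hd : π₀ d = P.jacobian := by
    have hQ : d = Ideal.Quotient.mk _ Q.jacobiMatrix.det := by
      show Q.jacobian = _
      rw [Q.jacobian_eq_jacobiMatrix_det]
      rfl
    rw [hQ, P.jacobian_eq_jacobiMatrix_det, P.algebraMap_apply]
    show MvPolynomial.aeval P.val Q.jacobiMatrix.det = _
    rw [← hev, RingHom.map_det]
    congr 2
    ext i j : 1
    simp only [RingHom.mapMatrix_apply, Matrix.map_apply, P.jacobiMatrix_apply,
      Algebra.PreSubmersivePresentation.jacobiMatrix_apply, ← hv j]
    exact (MvPolynomial.pderiv_map).symm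
  have hunit : ∀ y : Submonoid.powers d, IsUnit (π₀ y) := by
    rintro ⟨_, k, rfl⟩
    rw [map_pow, hd]
    exact P.jacobian_isUnit.pow k
  let π : W →ₐ[A] B := IsLocalization.liftAlgHom (M := Submonoid.powers d) hunit
  have hπ : ∀ x : S₀, π (algebraMap S₀ W x) = π₀ x := fun x => by
    simp [π]
  let R := (Algebra.PreSubmersivePresentation.localizationAway W d).comp Q
  have hjac : IsUnit R.jacobian := by
    rw [Algebra.PreSubmersivePresentation.comp_jacobian_eq_jacobian_smul_jacobian,
      Algebra.PreSubmersivePresentation.localizationAway_jacobian, Algebra.smul_def]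
    have : IsUnit (algebraMap S₀ W d) :=
      IsLocalization.map_units W (⟨d, 1, by simp⟩ : Submonoid.powers d)
    exact this.mul this
  let R' : Algebra.SubmersivePresentation A W (Unit ⊕ ι) (Unit ⊕ σ) :=
    { __ := R, jacobian_isUnit := hjac }
  have hle : Nat.card ι ≤ Nat.card σ := by
    have h' : Nat.card ι - Nat.card σ = 0 := hP
    omega
  have hW : Algebra.Etale A W := by
    rw [Algebra.Etale.iff_isStandardSmoothOfRelativeDimension_zero]
    refine R'.isStandardSmoothOfRelativeDimension ?_
    show Nat.card (Unit ⊕ ι) - Nat.card (Unit ⊕ σ) = 0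
    rw [Nat.card_sum, Nat.card_sum]
    omega
  refine ⟨W, inferInstance, inferInstance, π, hW, ?_, ?_⟩
  · intro b
    obtain ⟨x, rfl⟩ := hπ₀ b
    exact ⟨algebraMap S₀ W x, hπ x⟩
  · refine le_antisymm (fun w hw => ?_) ?_
    · obtain ⟨x, ⟨_, k, rfl⟩, rfl⟩ := IsLocalization.exists_mk'_eq (Submonoid.powers d) w
      rw [IsLocalization.mk'_eq_mul_mk'_one]
      refine Ideal.mul_mem_right _ _ ?_
      rw [RingHom.mem_ker, IsLocalization.mk'_eq_mul_mk'_one, map_mul, hπ] at hw
      have hu : IsUnit (π (IsLocalization.mk' W 1 (⟨d ^ k, k, rfl⟩ : Submonoid.powers d))) := by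
        refine (IsUnit.of_mul_eq_one (algebraMap S₀ W (d ^ k)) ?_).map π
        rw [IsLocalization.mk'_spec, map_one]
      have hx : π₀ x = 0 := (hu.mul_left_eq_zero).1 hw
      rw [IsScalarTower.algebraMap_eq A S₀ W, ← Ideal.map_map]
      refine Ideal.mem_map_of_mem _ ?_
      obtain ⟨p, rfl⟩ := Ideal.Quotient.mk_surjective x
      have hp : red p ∈ Ideal.span (Set.range P.relation) := by
        rw [P.span_range_relation_eq_ker, P.ker_eq_ker_aeval_val, RingHom.mem_ker, hev]
        exact hx
      rw [show Set.range P.relation = red '' Set.range v by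
        rw [← Set.range_comp]; exact congrArg Set.range (funext fun j => (hv j).symm)] at hp
      obtain ⟨q, hq, hqp⟩ := (Ideal.mem_map_iff_of_surjective red hred).1
        (by rwa [Ideal.map_span] : red p ∈ (Ideal.span (Set.range v)).map red)
      have hmem : p - q ∈ I.map (C : A →+* MvPolynomial ι A) := by
        rw [← Ideal.mk_ker (I := I), ← MvPolynomial.ker_map, RingHom.mem_ker, map_sub, sub_eq_zero]
        exact hqp.symm
      rw [show Ideal.Quotient.mk (Ideal.span (Set.range v)) p =
          Ideal.Quotient.mk (Ideal.span (Set.range v)) (p - q) by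
        rw [map_sub, Ideal.Quotient.eq_zero_iff_mem.2 hq, sub_zero]]
      rw [IsScalarTower.algebraMap_eq A (MvPolynomial ι A) S₀, ← Ideal.map_map]
      exact Ideal.mem_map_of_mem _ hmem
    · rw [Ideal.map_le_iff_le_comap]
      intro a ha
      rw [Ideal.mem_comap, RingHom.mem_ker, AlgHom.commutes,
        IsScalarTower.algebraMap_apply A (A ⧸ I) B, Ideal.Quotient.algebraMap_eq,
        Ideal.Quotient.eq_zero_iff_mem.2 ha, map_zero]

end Groth.Agent.Ind91
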