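import Groth.Agent.Ind91.LocIdent
import Mathlib.RingTheory.Spectrum.Prime.Topology

universe u

namespace Groth.Agent.Ind91

variable {A B : Type u} [CommRing A] [CommRing B] [Algebra A B]

/-- Where the local map is bijective there are no specializations in the fibre. -/
theorem eq_of_le_of_comap_eq (Q : Ideal B) [Q.IsPrime]
    (h : Function.Bijective (Localization.localRingHom (Q.comap (algebraMap A B)) Q (algebraMap A B) rfl))
    {q : PrimeSpectrum B} (hle : q.asIdeal ≤ Q)
    (hc : PrimeSpectrum.comap (algebraMap A B) q = PrimeSpectrum.comap (algebraMap A B) ⟨Q, ‹_›⟩) :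
    q = ⟨Q, ‹_›⟩ := by
  let L := Localization.localRingHom (Q.comap (algebraMap A B)) Q (algebraMap A B) rfl
  have hrange : ∀ p : PrimeSpectrum B, p.asIdeal ≤ Q →
      ∃ z, PrimeSpectrum.comap (algebraMap B (Localization.AtPrime Q)) z = p := fun p hp =>
    (PrimeSpectrum.localization_comap_range (Localization.AtPrime Q) Q.primeCompl).superset
      (Set.disjoint_left.2 fun x hx hxp => hx (hp hxp) : Disjoint (Q.primeCompl : Set B) p.asIdeal)
  obtain ⟨z, hz⟩ := hrange q hle
  obtain ⟨z', hz'⟩ := hrange ⟨Q, ‹_›⟩ le_rfl
  suffices hzz : z = z' by rw [← hz, hzz, hz']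
  have key : ∀ w : PrimeSpectrum (Localization.AtPrime Q),
      PrimeSpectrum.comap (algebraMap A (Localization.AtPrime (Q.comap (algebraMap A B))))
        (PrimeSpectrum.comap L w) =
      PrimeSpectrum.comap (algebraMap A B) (PrimeSpectrum.comap (algebraMap B _) w) := fun w => by
    rw [← PrimeSpectrum.comap_comp_apply, ← PrimeSpectrum.comap_comp_apply]
    exact congrArg (fun φ => PrimeSpectrum.comap φ w)
      (RingHom.ext fun a => Localization.localRingHom_to_map _ _ _ rfl a)
  refine (PrimeSpectrum.comap_injective_of_surjective L h.2)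
    (PrimeSpectrum.localization_comap_injective _ (Q.comap (algebraMap A B)).primeCompl ?_)
  rw [key, key, hz, hz', hc]

end Groth.Agent.Ind91
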