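import Mathlib.RingTheory.Etale.Pi
import Mathlib.RingTheory.Etale.Basic
import Mathlib.RingTheory.Smooth.Flat
import Mathlib.RingTheory.Spectrum.Prime.Chevalley
import Mathlib.RingTheory.Flat.FaithfullyFlat.Algebra
import Mathlib.Algebra.Category.CommAlgCat.Basic

universe u

namespace Groth.Agent.Ind91

/-- The product of two etale algebras is etale. -/
theorem etale_prod (R A B : Type u) [CommRing R] [CommRing A] [CommRing B] [Algebra R A]
    [Algebra R B] [Algebra.Etale R A] [Algebra.Etale R B] : Algebra.Etale R (A × B) := by
  let F : Bool → CommAlgCat.{u} R := fun b => cond b (CommAlgCat.of R A) (CommAlgCat.of R B)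
  have iE : ∀ b, Algebra.Etale R (F b) := fun b => by
    cases b
    · exact ‹Algebra.Etale R B›
    · exact ‹Algebra.Etale R A›
  let e : (∀ b, F b) ≃ₐ[R] A × B :=
    { toFun := fun f => (f true, f false)
      invFun := fun p b => Bool.rec (motive := fun b => (F b : Type u)) p.2 p.1 b
      left_inv := fun f => funext fun b => by cases b <;> rfl
      right_inv := fun _ => rfl
      map_mul' := fun _ _ => rfl
      map_add' := fun _ _ => rfl
      commutes' := fun _ => rfl }
  exact Algebra.Etale.of_equiv e

/-- An etale algebra has open image on spectra. -/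
theorem isOpen_range_comap (R A : Type u) [CommRing R] [CommRing A] [Algebra R A]
    [Algebra.Etale R A] : IsOpen (Set.range (PrimeSpectrum.comap (algebraMap R A))) :=
  have : Module.Flat R A := Algebra.Smooth.flat R A
  have : Algebra.FinitePresentation R A := Algebra.Etale.finitePresentation
  PrimeSpectrum.isOpenMap_comap_of_hasGoingDown_of_finitePresentation.isOpen_range

/-- An etale algebra whose image contains `V(I)` is completed to a cover by basic opens of `I`. -/
theorem exists_cover (A : Type u) [CommRing A] (I : Ideal A) (W : Type u) [CommRing W] [Algebra A W]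
    [Algebra.Etale A W]
    (hW : PrimeSpectrum.zeroLocus (I : Set A) ⊆ Set.range (PrimeSpectrum.comap (algebraMap A W))) :
    ∃ t : Finset A, ↑t ⊆ (I : Set A) ∧
      Module.FaithfullyFlat A (W × ∀ f : t, Localization.Away (f : A)) ∧
      Algebra.Etale A (W × ∀ f : t, Localization.Away (f : A)) := by
  obtain ⟨t, htI, ht, hcov⟩ := (isOpen_range_comap A W).isClosed_compl.isCompact.elim_finite_subcover_image
    (b := (I : Set A)) (c := fun f => (PrimeSpectrum.basicOpen f : Set (PrimeSpectrum A)))
    (fun f _ => (PrimeSpectrum.basicOpen f).2) (fun p hp => by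
      by_contra hne
      refine hp (hW fun f hf => ?_)
      by_contra hfp
      exact hne (Set.mem_iUnion₂.2 ⟨f, hf, hfp⟩))
  refine ⟨ht.toFinset, by simpa using htI, ?_, ?_⟩
  · have : ∀ f : ht.toFinset, Algebra.Etale A (Localization.Away (f : A)) := fun f =>
      Algebra.Etale.of_isLocalizationAway (f : A)
    have := etale_prod A W (∀ f : ht.toFinset, Localization.Away (f : A))
    have : Module.Flat A (W × ∀ f : ht.toFinset, Localization.Away (f : A)) :=
      Algebra.Smooth.flat A _
    refine Module.FaithfullyFlat.of_comap_surjective fun p => ?_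
    by_cases hp : p ∈ Set.range (PrimeSpectrum.comap (algebraMap A W))
    · obtain ⟨q, rfl⟩ := hp
      exact ⟨PrimeSpectrum.comap (RingHom.fst _ _) q, rfl⟩
    · obtain ⟨f, hf, hpf⟩ := Set.mem_iUnion₂.1 (hcov hp)
      rw [← PrimeSpectrum.localization_away_comap_range (Localization.Away f) f] at hpf
      obtain ⟨q, rfl⟩ := hpf
      exact ⟨PrimeSpectrum.comap ((Pi.evalRingHom (fun g : ht.toFinset => Localization.Away (g : A))
        ⟨f, ht.mem_toFinset.2 hf⟩).comp (RingHom.snd _ _)) q, rfl⟩
  · have : ∀ f : ht.toFinset, Algebra.Etale A (Localization.Away (f : A)) := fun f =>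
      Algebra.Etale.of_isLocalizationAway (f : A)
    exact etale_prod A W _

/-- A retraction of the completed cover induces a retraction modulo `I` of the first factor. -/
theorem exists_retraction_mod (A : Type u) [CommRing A] (I : Ideal A) (W : Type u) [CommRing W]
    [Algebra A W] (t : Finset A) (ht : ↑t ⊆ (I : Set A))
    (r : (W × ∀ f : t, Localization.Away (f : A)) →ₐ[A] A) :
    ∃ ρ : W →ₐ[A] A ⧸ I, ∀ x y, Ideal.Quotient.mk I (r (x, y)) = ρ x := by
  classical
  let r' : (W × ∀ f : t, Localization.Away (f : A)) →ₐ[A] A ⧸ I := (Ideal.Quotient.mkₐ A I).comp r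
  have hsingle : ∀ (f : t) (z : Localization.Away (f : A)), r' (0, Pi.single f z) = 0 := by
    intro f z
    have hu := IsLocalization.Away.algebraMap_isUnit (S := Localization.Away (f : A)) (f : A)
    obtain ⟨c, hc⟩ := hu.dvd (a := z)
    have he : ((0, Pi.single f z) : W × ∀ f : t, Localization.Away (f : A)) =
        algebraMap A _ (f : A) * (0, Pi.single (M := fun g : t => Localization.Away (g : A)) f c) := by
      refine Prod.ext (mul_zero _).symm (funext fun g => ?_)
      show Pi.single (M := fun g : t => Localization.Away (g : A)) f z g =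
        algebraMap A _ (f : A) * Pi.single (M := fun g : t => Localization.Away (g : A)) f c g
      by_cases hg : g = f
      · subst hg; simpa using hc
      · simp [Pi.single_eq_of_ne hg]
    rw [he, map_mul, AlgHom.commutes, Ideal.Quotient.algebraMap_eq,
      Ideal.Quotient.eq_zero_iff_mem.2 (ht f.2), zero_mul]
  have hsnd : ∀ y, r' (0, y) = 0 := by
    intro y
    have he : ((0, y) : W × ∀ f : t, Localization.Away (f : A)) =
        ∑ f : t, ((0, Pi.single f (y f)) : W × ∀ f : t, Localization.Away (f : A)) := by
      refine Prod.ext ?_ ?_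
      · rw [Prod.fst_sum]; simp
      · rw [Prod.snd_sum]; exact (Finset.univ_sum_single y).symm
    rw [he, map_sum]; exact Finset.sum_eq_zero fun f _ => hsingle f _
  have key : ∀ x y, r' (x, y) = r' (x, 0) := fun x y => by
    have : ((x, y) : W × ∀ f : t, Localization.Away (f : A)) = (x, 0) + (0, y) := by simp
    rw [this, map_add, hsnd, add_zero]
  refine ⟨AlgHom.ofLinearMap (r'.toLinearMap.comp (LinearMap.inl A W _)) ?_ ?_,
    fun x y => key x y⟩
  · show r' (1, 0) = 1
    rw [← key 1 1]; exact map_one r'
  · intro x y
    show r' (x * y, 0) = r' (x, 0) * r' (y, 0)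
    rw [← map_mul]
    simp

end Groth.Agent.Ind91
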