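import Groth.Agent.Ind91.Etale
import Groth.Agent.Ind91.Prod
import Mathlib.RingTheory.Unramified.Finite
import Mathlib.RingTheory.Jacobson.Ideal
import Mathlib.RingTheory.Localization.Away.Basic
import Mathlib.RingTheory.Localization.Integer

universe u

open TensorProduct

namespace Groth.Agent.Ind91

/-- A map from a finitely presented algebra to a localization factors through a basic one. -/
theorem exists_away_factor {A B C : Type u} [CommRing A] [CommRing B] [Algebra A B]
    (S : Submonoid A) [IsLocalization S B] [CommRing C] [Algebra A C]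
    [hC : Algebra.FinitePresentation A C] (g : C →ₐ[A] B) :
    ∃ T ∈ S, ∃ (u : C →ₐ[A] Localization.Away T) (v : Localization.Away T →ₐ[A] B),
      v.comp u = g := by
  classical
  obtain ⟨n, f, hf, r, hr⟩ := hC.out
  obtain ⟨⟨b, hb⟩, hint⟩ := IsLocalization.exist_integer_multiples_of_finite S
    (fun i => g (f (MvPolynomial.X i)))
  choose a ha using hint
  have hbB : ∀ y : Submonoid.powers b, IsUnit (Algebra.ofId A B y) := fun ⟨_, k, hk⟩ => by
    subst hk
    simpa using ((IsLocalization.map_units B (⟨b, hb⟩ : S)).pow k)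
  let π : Localization.Away b →ₐ[A] B := IsLocalization.liftAlgHom hbB
  let ψ : MvPolynomial (Fin n) A →ₐ[A] Localization.Away b :=
    MvPolynomial.aeval fun i => IsLocalization.mk' _ (a i) (⟨b, 1, pow_one b⟩ : Submonoid.powers b)
  have hπψ : π.comp ψ = g.comp f := MvPolynomial.algHom_ext fun i => by
    simp only [ψ, AlgHom.comp_apply, MvPolynomial.aeval_X]
    have h := congrArg π (IsLocalization.mk'_spec (Localization.Away b) (a i)
      (⟨b, 1, pow_one b⟩ : Submonoid.powers b))
    rw [map_mul, AlgHom.commutes, AlgHom.commutes, ha, Algebra.smul_def,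
      mul_comm (algebraMap A B b)] at h
    exact (IsLocalization.map_units B (⟨b, hb⟩ : S)).mul_left_injective h
  have key : ∀ p ∈ r, ∃ t ∈ S, algebraMap A (Localization.Away b) t * ψ p = 0 := by
    intro p hp
    obtain ⟨c, y, hc⟩ := IsLocalization.exists_mk'_eq (Submonoid.powers b) (ψ p)
    have h0 : algebraMap A B c = 0 := by
      have h := congrArg π (IsLocalization.mk'_spec (Localization.Away b) c y)
      rw [map_mul, AlgHom.commutes, AlgHom.commutes, hc, ← AlgHom.comp_apply, hπψ,
        AlgHom.comp_apply, show f p = 0 from hr.le (Ideal.subset_span hp), map_zero, zero_mul] at h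
      exact h.symm
    obtain ⟨⟨t, ht⟩, htc⟩ := (IsLocalization.map_eq_zero_iff S B c).1 h0
    refine ⟨t, ht, ?_⟩
    rw [← hc, IsLocalization.mul_mk'_eq_mk'_of_mul]
    simp [show t * c = 0 from htc]
  choose t htS ht using key
  let T := b * ∏ p ∈ r.attach, t p.1 p.2
  have hT : T ∈ S := S.mul_mem hb (prod_mem fun p _ => htS p.1 p.2)
  let W := Localization.Away T
  have hdvd : ∀ d, d ∣ T → IsUnit (algebraMap A W d) := fun d hd =>
    isUnit_of_dvd_unit (map_dvd _ hd) (IsLocalization.Away.algebraMap_isUnit T)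
  have hbW : ∀ y : Submonoid.powers b, IsUnit (Algebra.ofId A W y) := fun ⟨_, k, hk⟩ => by
    subst hk
    simpa using (hdvd b (dvd_mul_right _ _)).pow k
  let ι : Localization.Away b →ₐ[A] W := IsLocalization.liftAlgHom hbW
  have hTB : ∀ y : Submonoid.powers T, IsUnit (Algebra.ofId A B y) := fun ⟨_, k, hk⟩ => by
    subst hk
    simpa using ((IsLocalization.map_units B (⟨T, hT⟩ : S)).pow k)
  let v : W →ₐ[A] B := IsLocalization.liftAlgHom hTB
  have hker : RingHom.ker f ≤ RingHom.ker (ι.comp ψ) := by
    refine hr.ge.trans ?_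
    rw [Ideal.span_le]
    intro p hp
    have h := congrArg ι (ht p hp)
    rw [map_mul, AlgHom.commutes, map_zero] at h
    exact (hdvd (t p hp) (Dvd.dvd.mul_left
      (Finset.dvd_prod_of_mem (fun q : r => t q.1 q.2) (Finset.mem_attach r ⟨p, hp⟩)) b)).mul_right_eq_zero.1 h
  let u := (Ideal.Quotient.liftₐ (RingHom.ker f) (ι.comp ψ) fun x hx => hker hx).comp
    (Ideal.quotientKerAlgEquivOfSurjective hf).symm.toAlgHom
  refine ⟨T, hT, u, v, ?_⟩
  refine AlgHom.ext fun x => ?_
  obtain ⟨p, rfl⟩ := hf x
  have hsymm : (Ideal.quotientKerAlgEquivOfSurjective hf).symm (f p) = Ideal.Quotient.mk _ p :=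
    (Ideal.quotientKerAlgEquivOfSurjective hf).injective (by rw [AlgEquiv.apply_symm_apply]; rfl)
  show v (Ideal.Quotient.liftₐ (RingHom.ker f) (ι.comp ψ) (fun x hx => hker hx)
    ((Ideal.quotientKerAlgEquivOfSurjective hf).symm (f p))) = g (f p)
  rw [hsymm]
  show v (ι (ψ p)) = g (f p)
  rw [← AlgHom.comp_apply v, IsLocalization.algHom_ext (Submonoid.powers b)
    (f := v.comp ι) (g := π) (Subsingleton.elim _ _), ← AlgHom.comp_apply, hπψ]
  rfl

/-- Localizations are ind-etale. -/
theorem isIndEtale_of_isLocalization (A B : Type u) [CommRing A] [CommRing B] [Algebra A B]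
    (S : Submonoid A) [IsLocalization S B] : EtPBC.IsIndEtale A B := by
  refine (isIndEtale_iff A B).2 fun C _ _ _ g => ?_
  obtain ⟨T, -, u, v, h⟩ := exists_away_factor S g
  exact ⟨Localization.Away T, inferInstance, inferInstance,
    Algebra.Etale.of_isLocalizationAway T, u, v, h⟩

/-- Two maps out of an unramified algebra which agree modulo the Jacobson radical are equal. -/
theorem ext_of_jacobson {A W B : Type u} [CommRing A] [CommRing W] [CommRing B] [Algebra A W]
    [Algebra A B] [Algebra.FormallyUnramified A W] [Algebra.EssFiniteType A W] (u v : W →ₐ[A] B)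
    (h : ∀ w, u w - v w ∈ (⊥ : Ideal B).jacobson) : u = v := by
  obtain ⟨t, ht, ht1⟩ := Algebra.FormallyUnramified.iff_exists_tensorProduct.1
    (inferInstance : Algebra.FormallyUnramified A W)
  let Ψ := Algebra.TensorProduct.productMap u v
  have hu : IsUnit (Ψ t) := by
    refine Ideal.isUnit_of_sub_one_mem_jacobson_bot _ ?_
    rw [← map_one u, ← ht1]
    have key : (Ideal.Quotient.mkₐ A (⊥ : Ideal B).jacobson).comp Ψ =
        ((Ideal.Quotient.mkₐ A (⊥ : Ideal B).jacobson).comp u).comp (Algebra.TensorProduct.lmul' A) := by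
      refine Algebra.TensorProduct.ext' fun x y => ?_
      simp only [AlgHom.comp_apply, Ψ, Algebra.TensorProduct.productMap_apply_tmul,
        Algebra.TensorProduct.lmul'_apply_tmul, Ideal.Quotient.mkₐ_eq_mk, map_mul]
      rw [Ideal.Quotient.eq.2 (h y)]
    exact Ideal.Quotient.eq.1 (AlgHom.congr_fun key t)
  refine AlgHom.ext fun s => ?_
  have h0 := congrArg Ψ (ht s)
  rw [map_mul, map_zero, hu.mul_left_eq_zero, map_sub, sub_eq_zero] at h0
  simpa [Ψ] using h0.symm

/-- A section of an unramified algebra modulo `I` is cut out by one element. -/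
theorem exists_isolating_element {A W : Type u} [CommRing A] [CommRing W] [Algebra A W]
    [Algebra.FormallyUnramified A W] [Algebra.EssFiniteType A W] (I : Ideal A) (ū : W →ₐ[A] A ⧸ I) :
    ∃ e : W, ū e = 1 ∧ ∀ ρ : W →ₐ[A] A ⧸ I, IsUnit (ρ e) → ρ = ū := by
  obtain ⟨t, ht, ht1⟩ := Algebra.FormallyUnramified.iff_exists_tensorProduct.1
    (inferInstance : Algebra.FormallyUnramified A W)
  let z : W ⊗[A] W →ₐ[A] (A ⧸ I) ⊗[A] W := Algebra.TensorProduct.map ū (AlgHom.id A W)
  obtain ⟨e, he⟩ : ∃ e : W, (1 : A ⧸ I) ⊗ₜ[A] e = z t := by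
    induction z t using TensorProduct.induction_on with
    | zero => exact ⟨0, TensorProduct.tmul_zero _ _⟩
    | tmul x w =>
      obtain ⟨a, rfl⟩ := Ideal.Quotient.mk_surjective x
      refine ⟨a • w, ?_⟩
      rw [TensorProduct.tmul_smul, TensorProduct.smul_tmul', Algebra.smul_def, mul_one]
      rfl
    | add x y hx hy =>
      obtain ⟨e, rfl⟩ := hx
      obtain ⟨e', rfl⟩ := hy
      exact ⟨e + e', TensorProduct.tmul_add _ _ _⟩
  have hval : ∀ ρ : W →ₐ[A] A ⧸ I, Algebra.TensorProduct.productMap ū ρ t = ρ e := by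
    intro ρ
    have key : Algebra.TensorProduct.productMap ū ρ =
        (Algebra.TensorProduct.productMap (AlgHom.id A (A ⧸ I)) ρ).comp z :=
      Algebra.TensorProduct.ext' fun x y => by simp [z]
    rw [key, AlgHom.comp_apply, ← he]
    simp
  refine ⟨e, ?_, fun ρ hρ => ?_⟩
  · rw [← hval ū]
    have key : Algebra.TensorProduct.productMap ū ū = ū.comp (Algebra.TensorProduct.lmul' A) :=
      Algebra.TensorProduct.ext' fun x y => by simp
    rw [key, AlgHom.comp_apply, ht1, map_one]
  · refine AlgHom.ext fun s => ?_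
    have h0 := congrArg (Algebra.TensorProduct.productMap ū ρ) (ht s)
    rw [map_mul, map_zero, hval, hρ.mul_left_eq_zero, map_sub, sub_eq_zero] at h0
    simpa using h0

end Groth.Agent.Ind91
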