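import Groth.Agent.Ind91.BigTensor
import Groth.Prelude.Def_ProEtW
import Mathlib.Algebra.Colimit.Ring
import Mathlib.RingTheory.Smooth.NoetherianDescent
import Mathlib.RingTheory.Spectrum.Prime.RingHom

universe u

open TensorProduct

namespace Groth.Agent.Ind91

/-- Presentations of faithfully flat etale algebras. -/
def FFIdx (R : Type u) [CommRing R] : Type u :=
  {p : Σ n : ℕ, Finset (MvPolynomial (Fin n) R) //
    Algebra.Etale R (MvPolynomial (Fin p.1) R ⧸ Ideal.span (p.2 : Set (MvPolynomial (Fin p.1) R))) ∧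
    Module.FaithfullyFlat R (MvPolynomial (Fin p.1) R ⧸ Ideal.span (p.2 : Set (MvPolynomial (Fin p.1) R)))}

/-- The tensor product of all faithfully flat etale algebras. -/
abbrev TT (R : Type u) [CommRing R] : Type u :=
  BigTens (ι := FFIdx R) (fun p => p.1.1) fun p =>
    Ideal.span (p.1.2 : Set (MvPolynomial (Fin p.1.1) R))

theorem isIndEtale_TT (R : Type u) [CommRing R] : EtPBC.IsIndEtale R (TT R) :=
  isIndEtale_bigTens _ _ (fun p : FFIdx R => p.2.1) fun _ => Submodule.fg_span (Finset.finite_toSet _)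

theorem faithfullyFlat_TT (R : Type u) [CommRing R] : Module.FaithfullyFlat R (TT R) :=
  faithfullyFlat_bigTens _ _ (fun p : FFIdx R => p.2.1) (fun _ => Submodule.fg_span (Finset.finite_toSet _))
    fun p => p.2.2

theorem nonempty_algHom_TT (R E : Type u) [CommRing R] [CommRing E] [Algebra R E] [Algebra.Etale R E]
    [Module.FaithfullyFlat R E] : Nonempty (E →ₐ[R] TT R) := by
  obtain ⟨n, f, hf, s, hs⟩ := (inferInstance : Algebra.FinitePresentation R E).out
  let e : (MvPolynomial (Fin n) R ⧸ Ideal.span (s : Set (MvPolynomial (Fin n) R))) ≃ₐ[R] E :=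
    (Ideal.quotientEquivAlgOfEq R hs).trans (Ideal.quotientKerAlgEquivOfSurjective hf)
  let p : FFIdx R := ⟨⟨n, s⟩, Algebra.Etale.of_equiv e.symm,
    Module.FaithfullyFlat.of_linearEquiv R _ e.toLinearEquiv⟩
  exact ⟨(tensIn (fun q : FFIdx R => q.1.1) _ p).comp e.symm.toAlgHom⟩

variable (A : Type u) [CommRing A]

/-- The tower. -/
noncomputable def tower : ℕ → CommRingCat.{u}
  | 0 => CommRingCat.of A
  | k + 1 => CommRingCat.of (TT (tower k))

/-- One step of the tower. -/
noncomputable def towerStep (k : ℕ) : tower A k →+* tower A (k + 1) :=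
  algebraMap (tower A k) (TT (tower A k))

/-- The transition maps. -/
noncomputable def towerMap (i j : ℕ) (h : i ≤ j) : tower A i →+* tower A j :=
  Nat.leRecOn (C := fun k => tower A i →+* tower A k) h (fun {k} g => (towerStep A k).comp g)
    (RingHom.id _)

theorem towerMap_self (i : ℕ) : towerMap A i i le_rfl = RingHom.id _ :=
  Nat.leRecOn_self (C := fun k => tower A i →+* tower A k) _

theorem towerMap_succ {i j : ℕ} (h : i ≤ j) :
    towerMap A i (j + 1) (h.trans j.le_succ) = (towerStep A j).comp (towerMap A i j h) :=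
  Nat.leRecOn_succ (C := fun k => tower A i →+* tower A k) h _

theorem towerMap_trans {i j k : ℕ} (hij : i ≤ j) (hjk : j ≤ k) :
    (towerMap A j k hjk).comp (towerMap A i j hij) = towerMap A i k (hij.trans hjk) := by
  induction k, hjk using Nat.le_induction with
  | base => rw [towerMap_self, RingHom.id_comp]
  | succ k hjk ih => rw [towerMap_succ A hjk, towerMap_succ A (hij.trans hjk), RingHom.comp_assoc, ih]

instance : DirectedSystem (fun k => tower A k) fun i j h => towerMap A i j h where
  map_self i x := by rw [towerMap_self, RingHom.id_apply]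
  map_map {k j i} hij hjk x := by rw [← RingHom.comp_apply, towerMap_trans]

/-- The union of the tower. -/
abbrev TowerLim : Type u := Ring.DirectLimit (fun k => tower A k) fun i j h => towerMap A i j h

/-- The maps to the union. -/
noncomputable def tof (k : ℕ) : tower A k →+* TowerLim A :=
  Ring.DirectLimit.of (fun k => tower A k) (fun i j h => towerMap A i j h) k

theorem tof_comp {i j : ℕ} (h : i ≤ j) : (tof A j).comp (towerMap A i j h) = tof A i :=
  RingHom.ext fun x => Ring.DirectLimit.of_f (G := fun k => tower A k) (f := fun i j h => towerMap A i j h) h x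

noncomputable instance instAlgTower (k : ℕ) : Algebra A (tower A k) :=
  (towerMap A 0 k k.zero_le).toAlgebra

noncomputable instance instAlgLim : Algebra A (TowerLim A) := (tof A 0).toAlgebra

/-- Finitely presented maps out factor through a stage. -/
theorem exists_stage {R : Type*} [CommRing R] {m : ℕ} {P : Type*} [CommRing P]
    (f : MvPolynomial (Fin m) R →+* P) (hf : Function.Surjective f) (hker : (RingHom.ker f).FG)
    {k₀ : ℕ} (φ : R →+* tower A k₀) (g : P →+* TowerLim A)
    (hg : ∀ r, g (f (MvPolynomial.C r)) = tof A k₀ (φ r)) :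
    ∃ (k : ℕ) (hk : k₀ ≤ k) (u : P →+* tower A k), (tof A k).comp u = g ∧
      ∀ r, u (f (MvPolynomial.C r)) = towerMap A k₀ k hk (φ r) := by
  classical
  choose ki xi hxi using fun i : Fin m => Ring.DirectLimit.exists_of (g (f (MvPolynomial.X i)))
  let k₁ := k₀ + Finset.univ.sup ki
  have hi : ∀ i, ki i ≤ k₁ := fun i =>
    (Finset.le_sup (Finset.mem_univ i)).trans (Nat.le_add_left _ _)
  let ψ : MvPolynomial (Fin m) R →+* tower A k₁ :=
    MvPolynomial.eval₂Hom ((towerMap A k₀ k₁ (Nat.le_add_right _ _)).comp φ)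
      fun i => towerMap A (ki i) k₁ (hi i) (xi i)
  have hψ : (tof A k₁).comp ψ = g.comp f := by
    refine MvPolynomial.ringHom_ext (fun r => ?_) fun i => ?_
    · simp only [RingHom.comp_apply, ψ, MvPolynomial.eval₂Hom_C, hg]
      exact Ring.DirectLimit.of_f _ _
    · simp only [RingHom.comp_apply, ψ, MvPolynomial.eval₂Hom_X', ← hxi]
      exact Ring.DirectLimit.of_f _ _
  obtain ⟨s, hs⟩ := hker
  have hz : ∀ p : s, ∃ (j : ℕ) (hj : k₁ ≤ j), towerMap A k₁ j hj (ψ p) = 0 := fun ⟨p, hp⟩ =>
    Ring.DirectLimit.of.zero_exact (f' := towerMap A) (i := k₁) (x := ψ p) (by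
      rw [show Ring.DirectLimit.of (fun k => tower A k) (fun i j h => towerMap A i j h) k₁ (ψ p) =
        g (f p) from RingHom.congr_fun hψ p,
        show f p = 0 from (hs ▸ Ideal.subset_span hp : p ∈ RingHom.ker f), map_zero])
  choose j hj hjz using hz
  let k := k₁ + Finset.univ.sup j
  have hk₁ : k₁ ≤ k := Nat.le_add_right _ _
  let χ := (towerMap A k₁ k hk₁).comp ψ
  have hχ : RingHom.ker f ≤ RingHom.ker χ := by
    rw [← hs, Ideal.span_le]
    intro p hp
    have hjk : j ⟨p, hp⟩ ≤ k :=
      (Finset.le_sup (Finset.mem_univ _)).trans (Nat.le_add_left _ _)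
    show towerMap A k₁ k hk₁ (ψ p) = 0
    rw [← towerMap_trans A (hj ⟨p, hp⟩) hjk, RingHom.comp_apply, hjz ⟨p, hp⟩, map_zero]
  refine ⟨k, (Nat.le_add_right k₀ _).trans hk₁, RingHom.liftOfSurjective f hf ⟨χ, hχ⟩, ?_, fun r => ?_⟩
  · rw [← RingHom.cancel_right hf, RingHom.comp_assoc, RingHom.liftOfRightInverse_comp, ← hψ,
      ← RingHom.comp_assoc, tof_comp]
  · rw [RingHom.liftOfRightInverse_comp_apply]
    show towerMap A k₁ k hk₁ (ψ (MvPolynomial.C r)) = _
    simp only [ψ, MvPolynomial.eval₂Hom_C]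
    rw [RingHom.comp_apply, ← RingHom.comp_apply, towerMap_trans]

theorem isIndEtale_tower (k : ℕ) : EtPBC.IsIndEtale A (tower A k) := by
  induction k with
  | zero =>
    refine isIndEtale_of_algEquiv (B := A) ?_ (isIndEtale_of_etale A A)
    exact AlgEquiv.ofRingEquiv (f := RingEquiv.refl A) fun a =>
      (RingHom.congr_fun (towerMap_self A 0) a).symm
  | succ k ih =>
    letI : Algebra (tower A k) (tower A (k + 1)) := (towerStep A k).toAlgebra
    have : IsScalarTower A (tower A k) (tower A (k + 1)) :=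
      IsScalarTower.of_algebraMap_eq' (towerMap_succ A k.zero_le)
    have h1 : EtPBC.IsIndEtale (tower A k) (tower A (k + 1)) :=
      isIndEtale_of_algEquiv (B := TT (tower A k))
        (AlgEquiv.ofRingEquiv (f := RingEquiv.refl (TT (tower A k))) fun _ => rfl)
        (isIndEtale_TT (tower A k))
    exact isIndEtale_trans ih h1

theorem comap_towerMap_surjective {i j : ℕ} (h : i ≤ j) :
    Function.Surjective (PrimeSpectrum.comap (towerMap A i j h)) := by
  induction j, h using Nat.le_induction with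
  | base => rw [towerMap_self]; exact fun x => ⟨x, rfl⟩
  | succ j h ih =>
    rw [towerMap_succ A h, PrimeSpectrum.comap_comp]
    have := faithfullyFlat_TT (tower A j)
    exact ih.comp (PrimeSpectrum.comap_surjective_of_faithfullyFlat (A := tower A j) (B := TT (tower A j)))

theorem isIndEtale_lim : EtPBC.IsIndEtale A (TowerLim A) := by
  refine (isIndEtale_iff A _).2 fun C _ _ hC g => ?_
  obtain ⟨m, f, hf, hker⟩ := hC.out
  obtain ⟨k, hk, u, hu, hu'⟩ := exists_stage A (k₀ := 0) f.toRingHom hf hker (RingHom.id A) g.toRingHom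
    fun r => (congrArg g (f.commutes r)).trans (g.commutes r)
  let u' : C →ₐ[A] tower A k :=
    { u with commutes' := fun a => (congrArg u (f.commutes a).symm).trans (hu' a) }
  let v : tower A k →ₐ[A] TowerLim A :=
    { tof A k with commutes' := fun a => RingHom.congr_fun (tof_comp A k.zero_le) a }
  obtain ⟨W, _, _, hW, a, b, hab⟩ := (isIndEtale_iff A _).1 (isIndEtale_tower A k) C u'
  exact ⟨W, inferInstance, inferInstance, hW, a, v.comp b,
    AlgHom.ext fun x => (congrArg v (AlgHom.congr_fun hab x)).trans (RingHom.congr_fun hu x)⟩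

theorem exists_mem_map {k₀ : ℕ} (I : Ideal (tower A k₀)) {x : TowerLim A} (hx : x ∈ I.map (tof A k₀)) :
    ∃ (k : ℕ) (hk : k₀ ≤ k) (y : tower A k),
      y ∈ I.map (towerMap A k₀ k hk) ∧ tof A k y = x := by
  have hmono : ∀ {i l : ℕ} (hi : k₀ ≤ i) (h : i ≤ l) {y : tower A i},
      y ∈ I.map (towerMap A k₀ i hi) →
      towerMap A i l h y ∈ I.map (towerMap A k₀ l (hi.trans h)) := fun {i l} hi h {y} hy => by
    have := Ideal.mem_map_of_mem (towerMap A i l h) hy
    rwa [Ideal.map_map, towerMap_trans] at this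
  induction hx using Submodule.span_induction with
  | mem z hz => obtain ⟨a, ha, rfl⟩ := hz; exact ⟨k₀, le_rfl, a, by
      rw [towerMap_self, Ideal.map_id]; exact ha, rfl⟩
  | zero => exact ⟨k₀, le_rfl, 0, zero_mem _, map_zero _⟩
  | add a b _ _ ha hb =>
    obtain ⟨i, hi, y, hy, rfl⟩ := ha
    obtain ⟨j, hj, z, hz, rfl⟩ := hb
    refine ⟨i + j, hi.trans (Nat.le_add_right i j), towerMap A i _ (Nat.le_add_right i j) y +
      towerMap A j _ (Nat.le_add_left j i) z, add_mem (hmono hi _ hy) (hmono hj _ hz), ?_⟩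
    rw [map_add, ← RingHom.comp_apply, tof_comp, ← RingHom.comp_apply, tof_comp]
  | smul c b _ hb =>
    obtain ⟨i, hi, y, hy, rfl⟩ := hb
    obtain ⟨j, z, rfl⟩ := Ring.DirectLimit.exists_of c
    refine ⟨i + j, hi.trans (Nat.le_add_right i j), towerMap A j _ (Nat.le_add_left j i) z *
      towerMap A i _ (Nat.le_add_right i j) y, Ideal.mul_mem_left _ _ (hmono hi _ hy), ?_⟩
    rw [map_mul, ← RingHom.comp_apply, tof_comp, ← RingHom.comp_apply, tof_comp]
    rfl

theorem one_notMem_map {k₀ : ℕ} (I : Ideal (tower A k₀)) [hI : I.IsPrime] :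
    (1 : TowerLim A) ∉ I.map (tof A k₀) := by
  intro h1
  obtain ⟨k, hk, y, hy, hy1⟩ := exists_mem_map A I h1
  obtain ⟨j, hj, hjz⟩ := Ring.DirectLimit.of.zero_exact (f' := towerMap A) (i := k) (x := y - 1)
    (show tof A k (y - 1) = 0 by rw [map_sub, hy1, map_one, sub_self])
  have h2 := Ideal.mem_map_of_mem (towerMap A k j hj) hy
  rw [Ideal.map_map, towerMap_trans,
    show towerMap A k j hj y = 1 by rwa [map_sub, map_one, sub_eq_zero] at hjz] at h2
  obtain ⟨q, hq⟩ := comap_towerMap_surjective A (hk.trans hj) ⟨I, hI⟩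
  exact q.isPrime.ne_top ((Ideal.eq_top_iff_one _).2
    (Ideal.map_le_iff_le_comap.2 (le_of_eq (congrArg PrimeSpectrum.asIdeal hq).symm) h2))

theorem faithfullyFlat_lim : Module.FaithfullyFlat A (TowerLim A) := by
  have := flat_of_isIndEtale (isIndEtale_lim A)
  refine ⟨fun m hm htop => ?_⟩
  rw [Ideal.smul_top_eq_map] at htop
  have : m.IsPrime := hm.isPrime
  have h1 : (1 : TowerLim A) ∈ Submodule.restrictScalars A (m.map (algebraMap A (TowerLim A))) :=
    htop ▸ Submodule.mem_top
  exact @one_notMem_map A _ 0 (m : Ideal (tower A 0)) hm.isPrime h1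

theorem hasEtaleRetractions_lim : ProEtW.HasEtaleRetractions (TowerLim A) := by
  intro E _ _ hff het
  obtain ⟨A₀, B₀, _, _, hfg, hB₀, ⟨ε⟩⟩ := Algebra.Etale.exists_subalgebra_fg ℤ (TowerLim A) E
  have : Algebra.FiniteType ℤ A₀ := (Subalgebra.fg_iff_finiteType A₀).1 hfg
  obtain ⟨m, f, hf, hker⟩ :=
    (Algebra.FinitePresentation.of_finiteType (R := ℤ) (A := A₀)).1 inferInstance |>.out
  obtain ⟨k, hk, u, hu, -⟩ := exists_stage A (k₀ := 0) f.toRingHom hf hker (Int.castRingHom _)
    A₀.val.toRingHom fun r => (RingHom.congr_fun (Subsingleton.elim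
      ((A₀.val.toRingHom.comp f.toRingHom).comp MvPolynomial.C)
      ((tof A 0).comp (Int.castRingHom _))) r)
  letI : Algebra A₀ (tower A k) := u.toAlgebra
  letI : Algebra (tower A k) (TowerLim A) := (tof A k).toAlgebra
  have : IsScalarTower A₀ (tower A k) (TowerLim A) := IsScalarTower.of_algebraMap_eq' hu.symm
  have : IsScalarTower A (tower A k) (TowerLim A) :=
    IsScalarTower.of_algebraMap_eq' (tof_comp A k.zero_le).symm
  have hfl : Module.FaithfullyFlat (tower A k) (TowerLim A) := by
    have := flat_of_isIndEtale (isIndEtale_cancel (isIndEtale_tower A k) (isIndEtale_lim A))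
    refine ⟨fun M hM htop => ?_⟩
    rw [Ideal.smul_top_eq_map] at htop
    have : M.IsPrime := hM.isPrime
    have h1 : (1 : TowerLim A) ∈ Submodule.restrictScalars (tower A k)
      (M.map (algebraMap (tower A k) (TowerLim A))) := htop ▸ Submodule.mem_top
    exact one_notMem_map A M h1
  let E₀ := tower A k ⊗[A₀] B₀
  let e : TowerLim A ⊗[tower A k] E₀ ≃ₐ[TowerLim A] E :=
    (Algebra.TensorProduct.cancelBaseChange A₀ (tower A k) (TowerLim A) (TowerLim A) B₀).trans ε.symm
  have : Module.FaithfullyFlat (tower A k) E₀ := by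
    refine Module.FaithfullyFlat.of_comap_surjective fun x => ?_
    obtain ⟨y, hy⟩ := PrimeSpectrum.comap_surjective_of_faithfullyFlat (A := tower A k) (B := TowerLim A) x
    obtain ⟨z, hz⟩ := PrimeSpectrum.comap_surjective_of_faithfullyFlat (A := TowerLim A) (B := E) y
    refine ⟨PrimeSpectrum.comap (e.toAlgHom.toRingHom.comp
      (Algebra.TensorProduct.includeRight (R := tower A k) (A := TowerLim A) (B := E₀)).toRingHom) z, ?_⟩
    rw [← hy, ← hz, ← PrimeSpectrum.comap_comp_apply, ← PrimeSpectrum.comap_comp_apply]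
    refine congrArg (fun φ => PrimeSpectrum.comap φ z) (RingHom.ext fun a => ?_)
    show e (Algebra.TensorProduct.includeRight (R := tower A k) (A := TowerLim A) (B := E₀)
      (algebraMap (tower A k) E₀ a)) = _
    rw [AlgHom.commutes, IsScalarTower.algebraMap_apply (tower A k) (TowerLim A) _ a, AlgEquiv.commutes]
    rfl
  obtain ⟨φ⟩ := nonempty_algHom_TT (tower A k) E₀
  let θ : E₀ →ₐ[tower A k] TowerLim A :=
    { (tof A (k + 1)).comp φ.toRingHom with
      commutes' := fun a => (congrArg (tof A (k + 1)) (φ.commutes a)).trans <| by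
        rw [show algebraMap (tower A k) (TowerLim A) a = tof A k a from rfl,
          ← tof_comp A k.le_succ, towerMap_succ A le_rfl, towerMap_self]
        rfl }
  exact ⟨(Algebra.TensorProduct.lift (Algebra.ofId (TowerLim A) (TowerLim A)) θ
    fun _ _ => Commute.all _ _).comp e.symm.toAlgHom⟩

end Groth.Agent.Ind91
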