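import Groth.Prelude.Def_ProEtW
import Groth.Prelude.Def_EtBase
import Groth.Agent.Ind91.Prod
import Mathlib.RingTheory.Etale.StandardEtale
import Mathlib.RingTheory.Henselian
import Mathlib.RingTheory.Polynomial.ScaleRoots
import Mathlib.Algebra.Polynomial.Lifts
import Mathlib.FieldTheory.IsSepClosed

universe u

open Polynomial IsLocalRing

namespace Groth.Agent.Ind91

/-- Points of an etale algebra over the closed point lift to the local ring. -/
theorem exists_point_localization {A : Type u} [CommRing A] (h : ProEtW.HasEtaleRetractions A)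
    (m : Ideal A) [m.IsMaximal] (W : Type u) [CommRing W] [Algebra A W] [Algebra.Etale A W]
    {K : Type*} [Field K] (ψ : W →+* K) (hψ : ∀ a ∈ m, ψ (algebraMap A W a) = 0) :
    Nonempty (W →ₐ[A] Localization.AtPrime m) := by
  let q : PrimeSpectrum W := ⟨RingHom.ker ψ, RingHom.ker_isPrime ψ⟩
  have hq : m = q.asIdeal.comap (algebraMap A W) :=
    Ideal.IsMaximal.eq_of_le ‹m.IsMaximal› (q.isPrime.comap (algebraMap A W)).ne_top
      fun a ha => hψ a ha
  obtain ⟨t, ht, hff, het⟩ := exists_cover A m W (fun p hp => ⟨q, PrimeSpectrum.ext (hq.symm.trans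
    (Ideal.IsMaximal.eq_of_le ‹m.IsMaximal› p.isPrime.ne_top hp))⟩)
  obtain ⟨r⟩ := h _ hff het
  obtain ⟨ρ, hρ⟩ := exists_retraction_mod A m W t ht r
  let g := (IsScalarTower.toAlgHom A A (Localization.AtPrime m)).comp r
  have h1 : g (1, 0) = 1 := by
    have hu : IsUnit (g (1, 0)) := by
      refine IsLocalization.map_units _ (⟨r (1, 0), ?_⟩ : m.primeCompl)
      intro hmem
      have := hρ 1 0
      rw [Ideal.Quotient.eq_zero_iff_mem.2 hmem, map_one] at this
      exact (Ideal.Quotient.nontrivial_iff.2 (Ideal.IsMaximal.ne_top ‹_›)).exists_pair_ne.elim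
        fun a ⟨b, hab⟩ => hab ((eq_of_zero_eq_one this a b))
    exact hu.mul_left_cancel (b := g (1, 0)) (c := 1) (by rw [← map_mul]; simp)
  refine ⟨AlgHom.ofLinearMap (g.toLinearMap.comp (LinearMap.inl A W _)) h1 fun x y => ?_⟩
  show g (x * y, 0) = g (x, 0) * g (y, 0)
  rw [← map_mul]; simp

variable {A : Type u} [CommRing A] (h : ProEtW.HasEtaleRetractions A) (m : Ideal A) [m.IsMaximal]
include h

/-- Roots of standard etale pairs exist in the local ring. -/
theorem exists_root_localization (P : StandardEtalePair A) {K : Type*} [Field K] (χ : A →+* K)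
    (hχ : ∀ a ∈ m, χ a = 0) (b : K) (hf : (P.f.map χ).eval b = 0) (hg : (P.g.map χ).eval b ≠ 0) :
    ∃ a : Localization.AtPrime m,
      aeval a P.f = 0 ∧ IsUnit (aeval a P.g) := by
  letI := χ.toAlgebra
  have hb : P.HasMap b := ⟨by rwa [aeval_def, ← eval_map], isUnit_iff_ne_zero.2
    (by rwa [aeval_def, ← eval_map])⟩
  obtain ⟨φ⟩ := exists_point_localization h m P.Ring (P.lift b hb).toRingHom
    (fun a ha => ((P.lift b hb).commutes a).trans (hχ a ha))
  exact ⟨φ P.X, P.hasMap_X.map φ⟩

theorem henselianLocalRing_localization : HenselianLocalRing (Localization.AtPrime m) := by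
  classical
  refine { is_henselian := fun f hf a₀ h0 h1 => ?_ }
  let R := Localization.AtPrime m
  let φ := algebraMap A R
  obtain ⟨⟨s, hs⟩, hint⟩ := IsLocalization.exist_integer_multiples m.primeCompl
    (insert a₀ f.coeffs) id
  have hrange : ∀ x ∈ insert a₀ f.coeffs, φ s * x ∈ φ.range := fun x hx => by
    obtain ⟨y, hy⟩ := hint x hx
    exact ⟨y, hy.trans (Algebra.smul_def _ _)⟩
  have hu : IsUnit (φ s) := IsLocalization.map_units _ (⟨s, hs⟩ : m.primeCompl)
  obtain ⟨F, hF, -, hFm⟩ := lifts_and_degree_eq_and_monic (f := φ) (p := scaleRoots f (φ s)) (by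
    rw [lifts_iff_coeff_lifts]
    intro i
    rw [coeff_scaleRoots]
    rcases Nat.lt_trichotomy i f.natDegree with hi | rfl | hi
    · by_cases hc : f.coeff i = 0
      · exact ⟨0, by rw [hc, zero_mul, map_zero]⟩
      obtain ⟨y, hy⟩ := hrange _ (Finset.mem_insert_of_mem (coeff_mem_coeffs hc))
      refine ⟨y * s ^ (f.natDegree - i - 1), ?_⟩
      rw [map_mul, map_pow, hy, mul_comm (φ s), mul_assoc, ← pow_succ',
        show f.natDegree - i - 1 + 1 = f.natDegree - i by omega]
    · exact ⟨1, by rw [hf.coeff_natDegree, Nat.sub_self, pow_zero, mul_one, map_one]⟩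
    · exact ⟨0, by rw [coeff_eq_zero_of_natDegree_lt hi, zero_mul, map_zero]⟩)
    (monic_scaleRoots_iff _ |>.2 hf)
  obtain ⟨b, hb⟩ := hrange a₀ (Finset.mem_insert_self _ _)
  have hmap : ∀ r : R, (scaleRoots f (φ s)).eval (φ s * r) = φ s ^ f.natDegree * f.eval r := fun r => by
    have := scaleRoots_eval₂_mul (RingHom.id R) r (φ s) (p := f)
    exact this
  have hder : φ s * (scaleRoots f (φ s)).derivative.eval (φ s * a₀) =
      φ s ^ f.natDegree * f.derivative.eval a₀ := by
    by_cases hn : f.natDegree = 0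
    · have hf1 : f = 1 := (hf.natDegree_eq_zero).1 hn
      have hS : scaleRoots f (φ s) = 1 := (((monic_scaleRoots_iff _).2 hf).natDegree_eq_zero).1
        (by rw [natDegree_scaleRoots, hn])
      rw [hS, hf1]; simp
    have hcomp : (scaleRoots f (φ s)).comp (C (φ s) * X) = C (φ s ^ f.natDegree) * f := by
      rw [comp_eq_aeval]
      ext i
      rw [aeval_eq_sum_range, natDegree_scaleRoots, finsetSum_coeff, coeff_C_mul]
      simp only [coeff_smul, mul_pow, ← C_pow, coeff_C_mul, coeff_X_pow, coeff_scaleRoots, smul_eq_mul]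
      by_cases hi : i ≤ f.natDegree
      · rw [Finset.sum_eq_single i]
        · rw [if_pos rfl, mul_one, mul_assoc, ← pow_add, Nat.sub_add_cancel hi, mul_comm]
        · intro j _ hj; simp [Ne.symm hj]
        · intro hni; exact absurd (Finset.mem_range_succ_iff.2 hi) hni
      · rw [coeff_eq_zero_of_natDegree_lt (not_le.1 hi), mul_zero]
        refine Finset.sum_eq_zero fun j hj => ?_
        have : i ≠ j := fun e => hi (e ▸ Finset.mem_range_succ_iff.1 hj)
        simp [this]
    have := congrArg (fun p => (derivative p).eval a₀) hcomp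
    simp only [derivative_comp, derivative_C_mul, derivative_X, eval_mul, eval_comp, eval_C, eval_X, mul_one] at this
    exact this
  let κ := ResidueField R
  let χ : A →+* κ := (residue R).comp φ
  have hχ : ∀ a ∈ m, χ a = 0 := fun a ha => (residue_eq_zero_iff _).2
    ((IsLocalization.AtPrime.to_map_mem_maximal_iff R m a).2 ha)
  have hFb : φ (F.eval b) = φ s ^ f.natDegree * f.eval a₀ := by
    rw [← hmap a₀, ← hb, ← hF, eval_map_apply]
  have hdb : φ s * φ (F.derivative.eval b) = φ s ^ f.natDegree * f.derivative.eval a₀ := by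
    rw [← hder, ← hb, ← hF, derivative_map, eval_map_apply]
  have hunit : IsUnit (φ (F.derivative.eval b)) := by
    refine isUnit_of_mul_isUnit_right (x := φ s) ?_
    rw [hdb]; exact (hu.pow _).mul h1
  let q := F /ₘ (X - C b)
  have hq : F = C (F.eval b) + (X - C b) * q := by
    rw [← modByMonic_X_sub_C_eq_C_eval, modByMonic_add_div]
  have hqb : q.eval b = F.derivative.eval b := by
    conv_rhs => rw [hq]
    simp
  let P : StandardEtalePair A := ⟨F, hFm, derivative F * q, ⟨q, 0, 1, by simp⟩⟩
  have hne : χ (F.derivative.eval b) ≠ 0 := (hunit.map (residue R)).ne_zero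
  obtain ⟨a, ha, hga⟩ := exists_root_localization h m P χ hχ (χ b) (by
      show (F.map χ).eval (χ b) = 0
      rw [eval_map_apply]
      show residue R (φ (F.eval b)) = 0
      rw [hFb, residue_eq_zero_iff]
      exact Ideal.mul_mem_left _ _ h0) (by
      show ((derivative F * q).map χ).eval (χ b) ≠ 0
      rw [eval_map_apply, eval_mul, hqb, map_mul]
      exact mul_ne_zero hne hne)
  refine ⟨hu.unit⁻¹ * a, ?_, ?_⟩
  · have h2 := hmap (hu.unit⁻¹ * a)
    rw [← mul_assoc, hu.mul_val_inv, one_mul, ← hF, eval_map] at h2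
    exact ((hu.pow _).mul_right_eq_zero).1 (h2.symm.trans ha)
  · have hga' : IsUnit (aeval a q) := by
      have : IsUnit (aeval a (derivative F * q)) := hga
      rw [map_mul] at this
      exact isUnit_of_mul_isUnit_right this
    have hzero : (a - φ b) * aeval a q ∈ maximalIdeal R := by
      have e : φ (F.eval b) + (a - φ b) * aeval a q = 0 := by
        refine Eq.trans ?_ (show aeval a F = 0 from ha)
        conv_rhs => rw [hq]
        simp [φ]
        rfl
      rw [eq_neg_of_add_eq_zero_right e, hFb]
      exact neg_mem (Ideal.mul_mem_left _ _ h0)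
    rw [Ideal.mul_unit_mem_iff_mem _ hga', hb] at hzero
    have : (hu.unit⁻¹ : Rˣ) * (a - φ s * a₀) = (hu.unit⁻¹ : Rˣ) * a - a₀ := by
      rw [mul_sub, ← mul_assoc, hu.val_inv_mul, one_mul]
    rw [← this]
    exact Ideal.mul_mem_left _ _ hzero

theorem isSepClosed_residueField : IsSepClosed (ResidueField (Localization.AtPrime m)) := by
  let R := Localization.AtPrime m
  let κ := ResidueField R
  let χ : A →+* κ := (residue R).comp (algebraMap A R)
  have hχs : Function.Surjective χ := fun x => by
    obtain ⟨r, rfl⟩ := residue_surjective x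
    obtain ⟨a, ha⟩ := Ideal.Quotient.mk_surjective
      ((IsLocalization.AtPrime.equivQuotMaximalIdeal m R).symm (Ideal.Quotient.mk _ r))
    refine ⟨a, ?_⟩
    have := congrArg (IsLocalization.AtPrime.equivQuotMaximalIdeal m R) ha
    rw [RingEquiv.apply_symm_apply, IsLocalization.AtPrime.equivQuotMaximalIdeal_apply_mk] at this
    exact this
  have hχ : ∀ a ∈ m, χ a = 0 := fun a ha => (residue_eq_zero_iff _).2
    ((IsLocalization.AtPrime.to_map_mem_maximal_iff R m a).2 ha)
  refine IsSepClosed.of_exists_root _ fun p hp hirr hsep => ?_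
  obtain ⟨F, hF, -, hFm⟩ := lifts_and_degree_eq_and_monic (f := χ) (p := p)
    (map_surjective χ hχs p) hp
  let P : StandardEtalePair A := ⟨F, hFm, derivative F, ⟨1, 0, 1, by simp⟩⟩
  let L := AlgebraicClosure κ
  obtain ⟨β, hβ⟩ := IsAlgClosed.exists_root (p.map (algebraMap κ L))
    (by rw [degree_map]; exact (degree_pos_of_irreducible hirr).ne')
  obtain ⟨a, ha, -⟩ := exists_root_localization h m P ((algebraMap κ L).comp χ)
    (fun a ha => by simp [hχ a ha]) β
    (by show (F.map _).eval β = 0; rw [← map_map, hF]; exact hβ)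
    (by
      show ((derivative F).map _).eval β ≠ 0
      rw [← map_map, ← derivative_map, hF, eval_map, ← aeval_def]
      exact hsep.aeval_derivative_ne_zero (by rw [aeval_def, ← eval_map]; exact hβ))
  refine ⟨residue R a, ?_⟩
  rw [← hF, ← map_map, eval_map_apply, eval_map]
  rw [aeval_def] at ha
  rw [ha, map_zero]

end Groth.Agent.Ind91
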