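import Groth.Agent.Ind91.Etale
import Groth.Agent.Ind91.Lift
import Mathlib.RingTheory.Ideal.IdempotentFG
import Mathlib.RingTheory.FinitePresentation
import Mathlib.RingTheory.Unramified.Finite
import Mathlib.RingTheory.Localization.Away.Basic

universe u

open CategoryTheory CategoryTheory.Limits TensorProduct

namespace Groth.Agent.Ind91

variable {A : Type u} [CommRing A] {B : Type u} [CommRing B] [Algebra A B]

/-- An etale algebra with a map to `B` is isomorphic to a member of the index category. -/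
theorem exists_idx_of_etale (W : Type u) [CommRing W] [Algebra A W] [Algebra.Etale A W] (g : W →ₐ[A] B) :
    ∃ (k : Idx (EtaleP A) B) (u : W →ₐ[A] k.W), k.g.comp u = g := by
  obtain ⟨n, f, hf, hker⟩ := (inferInstance : Algebra.FinitePresentation A W).out
  let e : (MvPolynomial (Fin n) A ⧸ RingHom.ker f) ≃ₐ[A] W :=
    Ideal.quotientKerAlgEquivOfSurjective hf
  refine ⟨⟨n, RingHom.ker f, hker, etaleP_iso A _ _ e.symm (inferInstance : Algebra.Etale A W),
    g.comp e.toAlgHom⟩, e.symm.toAlgHom, ?_⟩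
  refine AlgHom.ext fun x => ?_
  show g (e (e.symm x)) = g x
  rw [AlgEquiv.apply_symm_apply]

instance (a : Idx (EtaleP A) B) : Algebra.Etale A a.W := a.prop

theorem etale_away {W : Type u} [CommRing W] [Algebra A W] [Algebra.Etale A W] (e : W) :
    Algebra.Etale A (Localization.Away e) :=
  have : Algebra.Etale W (Localization.Away e) := Algebra.Etale.of_isLocalizationAway e
  Algebra.Etale.comp A W (Localization.Away e)

/-- Etale algebras over `B` form a filtered category, for every `B`. -/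
theorem isFiltered_etaleIdx : IsFiltered (Idx (EtaleP A) B) := by
  have : Nonempty (Idx (EtaleP A) B) := ⟨(exists_idx_of_etale A (Algebra.ofId A B)).choose⟩
  have : IsFilteredOrEmpty (Idx (EtaleP A) B) := by
    constructor
    · intro a b
      have : Algebra.Etale A (a.W ⊗[A] b.W) := Algebra.Etale.comp A a.W (a.W ⊗[A] b.W)
      obtain ⟨k, u, hu⟩ := exists_idx_of_etale (a.W ⊗[A] b.W)
        (Algebra.TensorProduct.productMap a.g b.g)
      refine ⟨k, ⟨u.comp Algebra.TensorProduct.includeLeft, ?_⟩,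
        ⟨u.comp Algebra.TensorProduct.includeRight, ?_⟩, trivial⟩
      · rw [← AlgHom.comp_assoc, hu, Algebra.TensorProduct.productMap_left]
      · rw [← AlgHom.comp_assoc, hu, Algebra.TensorProduct.productMap_right]
    · intro a b φ ψ
      obtain ⟨t, ht, ht1⟩ := Algebra.FormallyUnramified.iff_exists_tensorProduct.1
        (inferInstance : Algebra.FormallyUnramified A a.W)
      let e : b.W := Algebra.TensorProduct.productMap φ.1 ψ.1 t
      have he : ∀ x : a.W, (φ.1 x - ψ.1 x) * e = 0 := by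
        intro x
        have h := congrArg (Algebra.TensorProduct.productMap φ.1 ψ.1) (ht x)
        rw [map_mul, map_zero, map_sub] at h
        simp only [Algebra.TensorProduct.productMap_apply_tmul, map_one, one_mul, mul_one] at h
        linear_combination -h
      have hge : b.g e = 1 := by
        have key : b.g.comp (Algebra.TensorProduct.productMap φ.1 ψ.1) =
            a.g.comp (Algebra.TensorProduct.lmul' A) :=
          Algebra.TensorProduct.ext' fun x y => by
            simp only [AlgHom.comp_apply, Algebra.TensorProduct.productMap_apply_tmul, map_mul,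
              Algebra.TensorProduct.lmul'_apply_tmul]
            rw [← AlgHom.comp_apply b.g φ.1, φ.2, ← AlgHom.comp_apply b.g ψ.1, ψ.2]
        have h := AlgHom.congr_fun key t
        rw [AlgHom.comp_apply, AlgHom.comp_apply, ht1, map_one] at h
        exact h
      have := etale_away (A := A) e
      have hunit : ∀ y : Submonoid.powers e, IsUnit (b.g y) := by
        rintro ⟨_, k, rfl⟩
        rw [map_pow, hge, one_pow]; exact isUnit_one
      obtain ⟨k, u, hu⟩ := exists_idx_of_etale (Localization.Away e)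
        (IsLocalization.liftAlgHom (M := Submonoid.powers e) hunit)
      refine ⟨k, ⟨u.comp (IsScalarTower.toAlgHom A b.W (Localization.Away e)), ?_⟩, ?_⟩
      · rw [← AlgHom.comp_assoc, hu]
        refine AlgHom.ext fun x => ?_
        simp
      · refine Subtype.ext (AlgHom.ext fun x => ?_)
        show u (algebraMap b.W _ (φ.1 x)) = u (algebraMap b.W _ (ψ.1 x))
        congr 1
        rw [IsLocalization.eq_iff_exists (Submonoid.powers e)]
        exact ⟨⟨e, Submonoid.mem_powers e⟩, by linear_combination he x⟩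
  exact { }

/-- An element of an etale algebra vanishing in an ind-etale algebra modulo `I` is moved into `I`
by a map of etale algebras. -/
theorem exists_etale_absorb (I : Ideal A) {Cb : Type u} [CommRing Cb] [Algebra A Cb]
    [Algebra (A ⧸ I) Cb] [IsScalarTower A (A ⧸ I) Cb] (hCb : Factors (A ⧸ I) (EtaleP (A ⧸ I)) Cb)
    (W₀ : Type u) [CommRing W₀] [Algebra A W₀] [Algebra.Etale A W₀] (g₀ : W₀ →ₐ[A] Cb) (x : W₀)
    (hx : g₀ x = 0) :
    ∃ (E : Type u) (_ : CommRing E) (_ : Algebra A E) (_ : Algebra.Etale A E) (u : W₀ →ₐ[A] E)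
      (v : E →ₐ[A] Cb), v.comp u = g₀ ∧ u x ∈ I.map (algebraMap A E) := by
  let S := (A ⧸ I) ⊗[A] W₀
  let gS : S →ₐ[A ⧸ I] Cb :=
    Algebra.TensorProduct.lift (Algebra.ofId (A ⧸ I) Cb) g₀ (fun _ _ => Commute.all _ _)
  have hgS : ∀ w, gS ((1 : A ⧸ I) ⊗ₜ w) = g₀ w := fun w =>
    (Algebra.TensorProduct.lift_tmul _ _ _ _ _).trans (by rw [map_one, one_mul])
  let J : Ideal S := Ideal.span {(1 : A ⧸ I) ⊗ₜ x}
  have : Algebra.FinitePresentation (A ⧸ I) (S ⧸ J) :=
    Algebra.FinitePresentation.quotient (Submodule.fg_span (Set.finite_singleton _))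
  have hJ : ∀ z ∈ J, gS z = 0 := fun z hz => by
    refine (Ideal.span_le (I := RingHom.ker gS)).2 ?_ hz
    rintro _ rfl
    rw [SetLike.mem_coe, RingHom.mem_ker, hgS, hx]
  obtain ⟨Wb, _, _, hWb, ub, vb, huv⟩ := hCb (S ⧸ J) (Ideal.Quotient.liftₐ J gS hJ)
  have : Algebra.Etale (A ⧸ I) Wb := hWb
  letI : Algebra A Wb := ((algebraMap (A ⧸ I) Wb).comp (algebraMap A (A ⧸ I))).toAlgebra
  have : IsScalarTower A (A ⧸ I) Wb := IsScalarTower.of_algebraMap_eq' rfl
  obtain ⟨W, _, _, π, hW, hπ, -⟩ := exists_etale_lift A I Wb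
  let T := W₀ ⊗[A] W
  have : Algebra.Etale A T := Algebra.Etale.comp A W₀ T
  let g' : T →ₐ[A] Wb := Algebra.TensorProduct.productMap
    (((ub.comp (Ideal.Quotient.mkₐ (A ⧸ I) J)).restrictScalars A).comp
      Algebra.TensorProduct.includeRight) π
  let χ : (A ⧸ I) ⊗[A] T →ₐ[A ⧸ I] Wb :=
    Algebra.TensorProduct.lift (Algebra.ofId (A ⧸ I) Wb) g' (fun _ _ => Commute.all _ _)
  have hχ : ∀ y, χ ((1 : A ⧸ I) ⊗ₜ y) = g' y := fun y =>
    (Algebra.TensorProduct.lift_tmul _ _ _ _ _).trans (by rw [map_one, one_mul])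
  have hg' : ∀ y w, g' (y ⊗ₜ w) = ub (Ideal.Quotient.mk J ((1 : A ⧸ I) ⊗ₜ y)) * π w :=
    fun y w => Algebra.TensorProduct.productMap_apply_tmul _ _ _ _
  have hχs : Function.Surjective χ := fun z => by
    obtain ⟨w, rfl⟩ := hπ z
    exact ⟨(1 : A ⧸ I) ⊗ₜ ((1 : W₀) ⊗ₜ w), by rw [hχ, hg']; erw [map_one, one_mul]⟩
  have hfg : (RingHom.ker χ.toRingHom).FG := Algebra.FinitePresentation.ker_fG_of_surjective χ hχs
  have hidem : IsIdempotentElem (RingHom.ker χ.toRingHom) := by
    letI := χ.toRingHom.toAlgebra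
    have : IsScalarTower (A ⧸ I) ((A ⧸ I) ⊗[A] T) Wb :=
      IsScalarTower.of_algebraMap_eq fun a => (χ.commutes a).symm
    have := Algebra.FormallyEtale.of_restrictScalars (R := A ⧸ I) (A := (A ⧸ I) ⊗[A] T) (B := Wb)
    exact (Algebra.FormallyEtale.iff_of_surjective hχs).1 this
  obtain ⟨e, he, hker⟩ := (Ideal.isIdempotentElem_iff_of_fg _ hfg).1 hidem
  obtain ⟨f, hf⟩ : ∃ f : T, (1 : A ⧸ I) ⊗ₜ[A] f = 1 - e := by
    induction (1 - e) using TensorProduct.induction_on with
    | zero => exact ⟨0, TensorProduct.tmul_zero _ _⟩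
    | tmul a w =>
      obtain ⟨a, rfl⟩ := Ideal.Quotient.mk_surjective a
      refine ⟨a • w, ?_⟩
      rw [TensorProduct.tmul_smul, TensorProduct.smul_tmul', Algebra.smul_def, mul_one]
      rfl
    | add y z hy hz =>
      obtain ⟨c, rfl⟩ := hy
      obtain ⟨d, rfl⟩ := hz
      exact ⟨c + d, TensorProduct.tmul_add _ _ _⟩
  have hgf : g' f = 1 := by
    rw [← hχ, hf, map_sub, map_one,
      show χ e = 0 from (hker ▸ Submodule.mem_span_singleton_self e : e ∈ RingHom.ker χ.toRingHom),
      sub_zero]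
  have := etale_away (A := A) f
  have hunit : ∀ y : Submonoid.powers f, IsUnit (((vb.restrictScalars A).comp g') y) := by
    rintro ⟨_, k, rfl⟩
    rw [map_pow, AlgHom.comp_apply, hgf, map_one, one_pow]; exact isUnit_one
  refine ⟨Localization.Away f, inferInstance, inferInstance, inferInstance,
    (IsScalarTower.toAlgHom A T (Localization.Away f)).comp Algebra.TensorProduct.includeLeft,
    IsLocalization.liftAlgHom (M := Submonoid.powers f) hunit, ?_, ?_⟩
  · refine AlgHom.ext fun w => ?_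
    have h := AlgHom.congr_fun huv (Ideal.Quotient.mk J ((1 : A ⧸ I) ⊗ₜ w))
    simp only [AlgHom.comp_apply] at h
    rw [show (Ideal.Quotient.liftₐ J gS hJ) (Ideal.Quotient.mk J ((1 : A ⧸ I) ⊗ₜ w)) =
      gS ((1 : A ⧸ I) ⊗ₜ w) from rfl, hgS] at h
    show IsLocalization.liftAlgHom (M := Submonoid.powers f) hunit
      (algebraMap T (Localization.Away f) (w ⊗ₜ (1 : W))) = g₀ w
    rw [IsLocalization.liftAlgHom_apply, IsLocalization.lift_eq]
    show vb (g' (w ⊗ₜ (1 : W))) = g₀ w
    rw [hg', map_one, mul_one]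
    exact h
  · have hx0 : g' (x ⊗ₜ (1 : W)) = 0 := by
      have h0 : Ideal.Quotient.mk J ((1 : A ⧸ I) ⊗ₜ[A] x) = 0 :=
        Ideal.Quotient.eq_zero_iff_mem.2 (Ideal.subset_span rfl)
      rw [hg', h0, map_zero, zero_mul]
    have h1 : (1 : A ⧸ I) ⊗ₜ[A] (f * (x ⊗ₜ (1 : W))) = 0 := by
      have hm : (1 : A ⧸ I) ⊗ₜ[A] (x ⊗ₜ[A] (1 : W)) ∈ RingHom.ker χ.toRingHom := by
        rw [RingHom.mem_ker]; exact (hχ _).trans hx0
      rw [hker, Submodule.mem_span_singleton] at hm
      obtain ⟨c, hc⟩ := hm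
      rw [show (1 : A ⧸ I) ⊗ₜ[A] (f * (x ⊗ₜ (1 : W))) =
          ((1 : A ⧸ I) ⊗ₜ[A] f) * ((1 : A ⧸ I) ⊗ₜ (x ⊗ₜ (1 : W))) by simp, hf, ← hc, smul_eq_mul,
        show (1 - e) * (c * e) = c * (e - e * e) by ring, he.eq, sub_self, mul_zero]
    let r : (A ⧸ I) ⊗[A] T →ₐ[A] T ⧸ I.map (algebraMap A T) :=
      Algebra.TensorProduct.productMap
        (Ideal.Quotient.liftₐ I (Algebra.ofId A _) fun a ha => by
          show algebraMap A (T ⧸ I.map (algebraMap A T)) a = 0
          rw [IsScalarTower.algebraMap_apply A T (T ⧸ I.map (algebraMap A T)),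
            Ideal.Quotient.algebraMap_eq, Ideal.Quotient.eq_zero_iff_mem]
          exact Ideal.mem_map_of_mem _ ha)
        (Ideal.Quotient.mkₐ A _)
    have h2 := congrArg r h1
    rw [map_zero, Algebra.TensorProduct.productMap_apply_tmul, map_one, one_mul,
      Ideal.Quotient.mkₐ_eq_mk, Ideal.Quotient.eq_zero_iff_mem] at h2
    have h3 := Ideal.mem_map_of_mem (algebraMap T (Localization.Away f)) h2
    rw [Ideal.map_map, ← IsScalarTower.algebraMap_eq, map_mul] at h3
    have hu : IsUnit (algebraMap T (Localization.Away f) f) :=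
      IsLocalization.map_units _ (⟨f, Submonoid.mem_powers f⟩ : Submonoid.powers f)
    exact (Ideal.unit_mul_mem_iff_mem _ hu).1 h3

end Groth.Agent.Ind91
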