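import Groth.Agent.Ind91.Etale
import Mathlib.RingTheory.LocalIso

universe u

namespace Groth.Agent.Ind91

/-- The local isomorphism property. -/
abbrev ZarP (A : Type u) [CommRing A] : ∀ (W : Type u) [CommRing W] [Algebra A W], Prop :=
  fun W _ _ => Algebra.IsLocalIso A W

theorem etale_of_isLocalIso (A W : Type u) [CommRing A] [CommRing W] [Algebra A W]
    [Algebra.IsLocalIso A W] : Algebra.Etale A W := by
  rw [← RingHom.etale_algebraMap]
  refine RingHom.Etale.ofLocalizationSpanTarget _
    {g : W | Algebra.IsStandardOpenImmersion A (Localization.Away g)}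
    (Algebra.IsLocalIso.span_isStandardOpenImmersion_eq_top A W) fun g => ?_
  obtain ⟨r, hr⟩ := g.2.exists_away
  rw [← IsScalarTower.algebraMap_eq]
  exact RingHom.etale_algebraMap.2 (Algebra.Etale.of_isLocalizationAway r)

theorem zarP_fp (A : Type u) [CommRing A] :
    ∀ (W : Type u) [CommRing W] [Algebra A W], ZarP A W → Algebra.FinitePresentation A W :=
  fun W _ _ h => (@etale_of_isLocalIso A W _ _ _ h).finitePresentation

theorem zarP_iso (A : Type u) [CommRing A] :
    ∀ (W W' : Type u) [CommRing W] [Algebra A W] [CommRing W'] [Algebra A W'],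
      (W ≃ₐ[A] W') → ZarP A W → ZarP A W' :=
  fun _ _ _ _ _ _ e h => haveI := h; Algebra.IsLocalIso.of_algEquiv e

theorem isIndZariski_iff (A B : Type u) [CommRing A] [CommRing B] [Algebra A B] :
    EtPBC.IsIndZariski A B ↔ Factors A (ZarP A) B :=
  Iff.trans Iff.rfl (isInd_iff (zarP_fp A) (zarP_iso A))

theorem isIndEtale_of_isIndZariski {A B : Type u} [CommRing A] [CommRing B] [Algebra A B]
    (h : EtPBC.IsIndZariski A B) : EtPBC.IsIndEtale A B :=
  (isIndEtale_iff A B).2 fun C _ _ _ g => by
    obtain ⟨W, _, _, hW, r⟩ := (isIndZariski_iff A B).1 h C g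
    haveI : Algebra.IsLocalIso A W := hW
    exact ⟨W, inferInstance, inferInstance, etale_of_isLocalIso A W, r⟩

theorem isIndZariski_of_algEquiv {A B B' : Type u} [CommRing A] [CommRing B] [CommRing B']
    [Algebra A B] [Algebra A B'] (e : B ≃ₐ[A] B') (h : EtPBC.IsIndZariski A B) :
    EtPBC.IsIndZariski A B' := by
  rw [isIndZariski_iff] at h ⊢
  intro C _ _ _ g
  obtain ⟨W, _, _, hW, u, v, huv⟩ := h C (e.symm.toAlgHom.comp g)
  refine ⟨W, inferInstance, inferInstance, hW, u, e.toAlgHom.comp v, AlgHom.ext fun x => ?_⟩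
  have := AlgHom.congr_fun huv x
  simp only [AlgHom.comp_apply] at this ⊢
  rw [this]
  exact e.apply_symm_apply _

end Groth.Agent.Ind91
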