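import Mathlib.Algebra.Category.Ring.FinitePresentation
import Mathlib.Algebra.Category.Ring.Under.Basic
import Mathlib.Algebra.Category.Ring.FilteredColimits
import Mathlib.CategoryTheory.Limits.Preserves.Over
import Mathlib.CategoryTheory.Limits.Types.Filtered
import Mathlib.Algebra.Category.CommAlgCat.Basic
import Mathlib.RingTheory.FinitePresentation
import Mathlib.RingTheory.TensorProduct.Maps
import Mathlib.RingTheory.FiniteStability

universe u

open CategoryTheory CategoryTheory.Limits TensorProduct

namespace Groth.Agent.Ind91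

/-- Recognition of filtered colimits of algebras on elements. -/
theorem isColimit_of_elements {R : CommRingCat.{u}} {J : Type u} [SmallCategory J] [IsFiltered J]
    {D : J ⥤ Under R} (c : Cocone D)
    (hs : ∀ x : c.pt.right, ∃ (j : J) (y : (D.obj j).right), (c.ι.app j).right y = x)
    (hi : ∀ (j : J) (x y : (D.obj j).right), (c.ι.app j).right x = (c.ι.app j).right y →
      ∃ (k : J) (f : j ⟶ k), (D.map f).right x = (D.map f).right y) :
    Nonempty (IsColimit c) := by
  let G := Under.forget R ⋙ forget CommRingCat.{u}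
  have : PreservesFilteredColimits G :=
    Limits.comp_preservesFilteredColimits (Under.forget R) (forget CommRingCat.{u})
  have : PreservesColimit D G := inferInstance
  have : ReflectsColimit D G := reflectsColimit_of_reflectsIsomorphisms D G
  refine ⟨isColimitOfReflects G (Types.FilteredColimit.isColimitOf' _ _ ?_ ?_)⟩
  · intro x
    obtain ⟨j, y, hy⟩ := hs x
    exact ⟨j, y, hy.symm⟩
  · intro j x y h
    exact hi j x y h

theorem elements_of_isColimit {R : CommRingCat.{u}} {J : Type u} [SmallCategory J] [IsFiltered J]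
    {D : J ⥤ Under R} {c : Cocone D} (hc : IsColimit c) :
    (∀ x : c.pt.right, ∃ (j : J) (y : (D.obj j).right), (c.ι.app j).right y = x) ∧
    (∀ (j : J) (x y : (D.obj j).right), (c.ι.app j).right x = (c.ι.app j).right y →
      ∃ (k : J) (f : j ⟶ k), (D.map f).right x = (D.map f).right y) := by
  let G := Under.forget R ⋙ forget CommRingCat.{u}
  have : PreservesFilteredColimits G :=
    Limits.comp_preservesFilteredColimits (Under.forget R) (forget CommRingCat.{u})
  have : PreservesColimit D G := inferInstance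
  have hG := isColimitOfPreserves G hc
  refine ⟨fun x => ?_, fun j x y h => ?_⟩
  · obtain ⟨j, y, hy⟩ := Types.jointly_surjective_of_isColimit hG x
    exact ⟨j, y, hy⟩
  · exact (Types.FilteredColimit.isColimit_eq_iff' hG x y).1 h

variable (A : Type u) [CommRing A] (P : ∀ (W : Type u) [CommRing W] [Algebra A W], Prop)

/-- `B` is a filtered colimit of `A`-algebras satisfying `P`. -/
def IsInd (B : Type u) [CommRing B] [Algebra A B] : Prop :=
  ∃ (J : Type u) (_ : SmallCategory J) (_ : IsFiltered J) (D : J ⥤ Under (CommRingCat.of A))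
    (c : Cocone D) (_ : IsColimit c),
    (∀ j, letI := (D.obj j).hom.hom.toAlgebra; P (D.obj j).right) ∧
    Nonempty (c.pt ≅ Under.mk (CommRingCat.ofHom (algebraMap A B)))

/-- Every map from a finitely presented algebra to `B` factors through an algebra satisfying `P`. -/
def Factors (B : Type u) [CommRing B] [Algebra A B] : Prop :=
  ∀ (C : Type u) [CommRing C] [Algebra A C] [Algebra.FinitePresentation A C] (g : C →ₐ[A] B),
    ∃ (W : Type u) (_ : CommRing W) (_ : Algebra A W),
      P W ∧ ∃ (u : C →ₐ[A] W) (v : W →ₐ[A] B), v.comp u = g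

variable {A P}

theorem IsInd.factors {B : Type u} [CommRing B] [Algebra A B] (h : IsInd A P B) : Factors A P B := by
  obtain ⟨J, _, _, D, c, hc, hP, ⟨e⟩⟩ := h
  intro C _ _ hC g
  let S : Under (CommRingCat.of A) := Under.mk (CommRingCat.ofHom (algebraMap A C))
  have : IsFinitelyPresentable.{u} S := CommRingCat.isFinitelyPresentable_under _ S
    (by show (algebraMap A C).FinitePresentation; exact RingHom.finitePresentation_algebraMap.2 hC)
  let g' : S ⟶ c.pt := Under.homMk (CommRingCat.ofHom g.toRingHom)
    (by ext a; exact g.commutes a) ≫ e.inv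
  obtain ⟨j, q, hq⟩ := IsFinitelyPresentable.exists_hom_of_isColimit hc g'
  letI := (D.obj j).hom.hom.toAlgebra
  let v : D.obj j ⟶ Under.mk (CommRingCat.ofHom (algebraMap A B)) := c.ι.app j ≫ e.hom
  refine ⟨(D.obj j).right, inferInstance, inferInstance, hP j,
    { q.right.hom with commutes' := fun a => ?_ },
    { v.right.hom with commutes' := fun a => ?_ }, ?_⟩
  · exact congr($(Under.w q) a)
  · exact congr($(Under.w v) a)
  · have h2 : q ≫ v = Under.homMk (CommRingCat.ofHom g.toRingHom) (by ext a; exact g.commutes a) := by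
      simp only [v, ← Category.assoc, hq]
      simp [g']
    exact AlgHom.ext fun x => congr(($h2).right x)

section Index

variable (B : Type u) [CommRing B] [Algebra A B] (P)

/-- Finitely presented algebras satisfying `P` with a map to `B`. -/
structure Idx : Type u where
  n : ℕ
  I : Ideal (MvPolynomial (Fin n) A)
  fg : I.FG
  prop : P (MvPolynomial (Fin n) A ⧸ I)
  g : (MvPolynomial (Fin n) A ⧸ I) →ₐ[A] B

variable {B P}

abbrev Idx.W (a : Idx P B) : Type u := MvPolynomial (Fin a.n) A ⧸ a.I

instance Idx.instFP (a : Idx P B) : Algebra.FinitePresentation A a.W :=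
  Algebra.FinitePresentation.quotient a.fg

noncomputable instance : SmallCategory (Idx P B) where
  Hom a b := {φ : a.W →ₐ[A] b.W // b.g.comp φ = a.g}
  id a := ⟨AlgHom.id A a.W, by simp⟩
  comp {a b c} φ ψ := ⟨ψ.1.comp φ.1, by rw [← AlgHom.comp_assoc, ψ.2, φ.2]⟩
  id_comp _ := Subtype.ext (AlgHom.comp_id _)
  comp_id _ := Subtype.ext (AlgHom.id_comp _)
  assoc _ _ _ := Subtype.ext (AlgHom.comp_assoc _ _ _).symm

variable (hfp : ∀ (W : Type u) [CommRing W] [Algebra A W], P W → Algebra.FinitePresentation A W)
  (hiso : ∀ (W W' : Type u) [CommRing W] [Algebra A W] [CommRing W'] [Algebra A W'],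
    (W ≃ₐ[A] W') → P W → P W')
include hfp hiso

theorem exists_idx (hB : Factors A P B) (C : Type u) [CommRing C] [Algebra A C]
    [Algebra.FinitePresentation A C] (g : C →ₐ[A] B) :
    ∃ (k : Idx P B) (u : C →ₐ[A] k.W), k.g.comp u = g := by
  obtain ⟨W, _, _, hW, u, v, huv⟩ := hB C g
  have := hfp W hW
  obtain ⟨n, f, hf, hker⟩ := ‹Algebra.FinitePresentation A W›.out
  let e : (MvPolynomial (Fin n) A ⧸ RingHom.ker f) ≃ₐ[A] W :=
    Ideal.quotientKerAlgEquivOfSurjective hf
  refine ⟨⟨n, RingHom.ker f, hker, hiso _ _ e.symm hW, v.comp e.toAlgHom⟩,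
    e.symm.toAlgHom.comp u, ?_⟩
  rw [← huv]
  refine AlgHom.ext fun x => ?_
  show v (e (e.symm (u x))) = v (u x)
  rw [AlgEquiv.apply_symm_apply]

theorem isFiltered_idx (hB : Factors A P B) : IsFiltered (Idx P B) := by
  have : Nonempty (Idx P B) :=
    ⟨(exists_idx hfp hiso hB (MvPolynomial (Fin 0) A) (MvPolynomial.aeval Fin.elim0)).choose⟩
  have : IsFilteredOrEmpty (Idx P B) := by
    constructor
    · intro a b
      have : Algebra.FinitePresentation A (a.W ⊗[A] b.W) :=
        Algebra.FinitePresentation.trans A a.W (a.W ⊗[A] b.W)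
      obtain ⟨k, u, hu⟩ := exists_idx hfp hiso hB (a.W ⊗[A] b.W)
        (Algebra.TensorProduct.productMap a.g b.g)
      refine ⟨k, ⟨u.comp Algebra.TensorProduct.includeLeft, ?_⟩,
        ⟨u.comp Algebra.TensorProduct.includeRight, ?_⟩, trivial⟩
      · rw [← AlgHom.comp_assoc, hu, Algebra.TensorProduct.productMap_left]
      · rw [← AlgHom.comp_assoc, hu, Algebra.TensorProduct.productMap_right]
    · intro a b φ ψ
      let s : Set b.W := Set.range fun i : Fin a.n =>
        φ.1 (Ideal.Quotient.mk _ (MvPolynomial.X i)) - ψ.1 (Ideal.Quotient.mk _ (MvPolynomial.X i))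
      have : Algebra.FinitePresentation A (b.W ⧸ Ideal.span s) :=
        Algebra.FinitePresentation.quotient (Submodule.fg_span (Set.finite_range _))
      have hg : ∀ x ∈ Ideal.span s, b.g x = 0 := by
        intro x hx
        refine (Ideal.span_le (I := RingHom.ker b.g)).2 ?_ hx
        rintro _ ⟨i, rfl⟩
        simp only [SetLike.mem_coe, RingHom.mem_ker, map_sub, sub_eq_zero]
        exact (AlgHom.congr_fun φ.2 _).trans (AlgHom.congr_fun ψ.2 _).symm
      obtain ⟨k, u, hu⟩ := exists_idx hfp hiso hB (b.W ⧸ Ideal.span s) (Ideal.Quotient.liftₐ _ b.g hg)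
      refine ⟨k, ⟨u.comp (Ideal.Quotient.mkₐ A _), ?_⟩, ?_⟩
      · rw [← AlgHom.comp_assoc, hu]; exact Ideal.Quotient.liftₐ_comp _ _ _
      · refine Subtype.ext (Ideal.Quotient.algHom_ext A (MvPolynomial.algHom_ext fun i => ?_))
        exact congrArg u (Ideal.Quotient.eq.2 (Ideal.subset_span ⟨i, rfl⟩))
  exact { }

omit hfp hiso in
/-- The diagram of the index category. -/
noncomputable def idxDiag : Idx P B ⥤ Under (CommRingCat.of A) where
  obj a := Under.mk (CommRingCat.ofHom (algebraMap A a.W))
  map φ := Under.homMk (CommRingCat.ofHom φ.1.toRingHom) (by ext x; exact φ.1.commutes x)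
  map_id _ := rfl
  map_comp _ _ := rfl

omit hfp hiso in
/-- The cocone of the index category. -/
noncomputable def idxCocone : Cocone (idxDiag (P := P) (B := B)) where
  pt := Under.mk (CommRingCat.ofHom (algebraMap A B))
  ι :=
    { app := fun a => Under.homMk (CommRingCat.ofHom a.g.toRingHom) (by ext x; exact a.g.commutes x)
      naturality := fun a b φ => by
        ext x
        exact AlgHom.congr_fun φ.2 x }

theorem Factors.isInd (hB : Factors A P B) : IsInd A P B := by
  have := isFiltered_idx hfp hiso hB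
  refine ⟨Idx P B, inferInstance, this, idxDiag, idxCocone, ?_, fun a => ?_, ⟨Iso.refl _⟩⟩
  · refine (isColimit_of_elements _ ?_ ?_).some
    · intro (x : B)
      obtain ⟨k, u, hu⟩ := exists_idx hfp hiso hB (MvPolynomial (Fin 1) A)
        (MvPolynomial.aeval fun _ => x)
      refine ⟨k, u (MvPolynomial.X 0), ?_⟩
      show k.g (u (MvPolynomial.X 0)) = x
      rw [← AlgHom.comp_apply, hu, MvPolynomial.aeval_X]
    · intro a (x : a.W) (y : a.W) (h : a.g x = a.g y)
      have : Algebra.FinitePresentation A (a.W ⧸ Ideal.span {x - y}) :=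
        Algebra.FinitePresentation.quotient (Submodule.fg_span (Set.finite_singleton _))
      obtain ⟨k, u, hu⟩ := exists_idx hfp hiso hB (a.W ⧸ Ideal.span {x - y}) (Ideal.Quotient.liftₐ (Ideal.span {x - y}) a.g
        fun z hz => (Ideal.span_le (I := RingHom.ker a.g)).2
          (by rintro _ rfl; simp [h]) hz)
      refine ⟨k, ⟨u.comp (Ideal.Quotient.mkₐ A _), ?_⟩, ?_⟩
      · rw [← AlgHom.comp_assoc, hu]; exact Ideal.Quotient.liftₐ_comp _ _ _
      · exact congrArg u (Ideal.Quotient.eq.2 (Ideal.subset_span rfl))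
  · have hh : (CommRingCat.ofHom (algebraMap A a.W)).hom.toAlgebra =
        (inferInstance : Algebra A a.W) := Algebra.algebra_ext _ _ fun _ => rfl
    show @P a.W _ (CommRingCat.ofHom (algebraMap A a.W)).hom.toAlgebra
    rw [hh]; exact a.prop

end Index

theorem isInd_iff {B : Type u} [CommRing B] [Algebra A B]
    (hfp : ∀ (W : Type u) [CommRing W] [Algebra A W], P W → Algebra.FinitePresentation A W)
    (hiso : ∀ (W W' : Type u) [CommRing W] [Algebra A W] [CommRing W'] [Algebra A W'],
      (W ≃ₐ[A] W') → P W → P W') :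
    IsInd A P B ↔ Factors A P B :=
  ⟨IsInd.factors, Factors.isInd hfp hiso⟩

end Groth.Agent.Ind91
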