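import Groth.Prelude.Def_PBC
import Groth.Agent.Ind91.Criterion
import Mathlib.RingTheory.Etale.Basic
import Mathlib.RingTheory.Etale.Weakly
import Mathlib.RingTheory.Smooth.NoetherianDescent
import Mathlib.RingTheory.RingHom.Etale
import Mathlib.RingTheory.Flat.EquationalCriterion
import Mathlib.RingTheory.Smooth.Flat

universe u

open CategoryTheory CategoryTheory.Limits TensorProduct

namespace Groth.Agent.Ind91

/-- The etale property. -/
abbrev EtaleP (A : Type u) [CommRing A] : ∀ (W : Type u) [CommRing W] [Algebra A W], Prop :=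
  fun W _ _ => Algebra.Etale A W

theorem etaleP_fp (A : Type u) [CommRing A] :
    ∀ (W : Type u) [CommRing W] [Algebra A W], EtaleP A W → Algebra.FinitePresentation A W :=
  fun W _ _ h => h.finitePresentation

theorem etaleP_iso (A : Type u) [CommRing A] :
    ∀ (W W' : Type u) [CommRing W] [Algebra A W] [CommRing W'] [Algebra A W'],
      (W ≃ₐ[A] W') → EtaleP A W → EtaleP A W' :=
  fun _ _ _ _ _ _ e h => haveI := h; Algebra.Etale.of_equiv e

theorem isIndEtale_iff (A B : Type u) [CommRing A] [CommRing B] [Algebra A B] :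
    EtPBC.IsIndEtale A B ↔ Factors A (EtaleP A) B :=
  Iff.trans Iff.rfl (isInd_iff (etaleP_fp A) (etaleP_iso A))

theorem isIndEtale_of_etale (A B : Type u) [CommRing A] [CommRing B] [Algebra A B]
    [Algebra.Etale A B] : EtPBC.IsIndEtale A B :=
  (isIndEtale_iff A B).2 fun _ _ _ _ g => ⟨B, inferInstance, inferInstance,
    (inferInstance : Algebra.Etale A B), g, AlgHom.id A B, AlgHom.id_comp g⟩

theorem isIndEtale_of_algEquiv {A B B' : Type u} [CommRing A] [CommRing B] [CommRing B']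
    [Algebra A B] [Algebra A B'] (e : B ≃ₐ[A] B') (h : EtPBC.IsIndEtale A B) :
    EtPBC.IsIndEtale A B' := by
  obtain ⟨J, _, _, D, c, hc, hP, ⟨i⟩⟩ := h
  exact ⟨J, inferInstance, inferInstance, D, c, hc, hP, ⟨i ≪≫ AlgEquiv.toUnder (R := CommRingCat.of A) e⟩⟩

theorem flat_of_isIndEtale {A B : Type u} [CommRing A] [CommRing B] [Algebra A B]
    (h : EtPBC.IsIndEtale A B) : Module.Flat A B := by
  refine Module.Flat.of_forall_isTrivialRelation fun {l f x} hfx => ?_
  let r : MvPolynomial (Fin l) A := ∑ i, f i • MvPolynomial.X i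
  have : Algebra.FinitePresentation A (MvPolynomial (Fin l) A ⧸ Ideal.span {r}) :=
    Algebra.FinitePresentation.quotient (Submodule.fg_span (Set.finite_singleton _))
  have hr : ∀ p ∈ Ideal.span {r}, MvPolynomial.aeval x p = 0 := fun p hp => by
    obtain ⟨q, rfl⟩ := Ideal.mem_span_singleton'.1 hp
    rw [map_mul, show MvPolynomial.aeval x r = 0 by simpa [r, map_sum] using hfx, mul_zero]
  obtain ⟨W, _, _, hW, u, v, huv⟩ := (isIndEtale_iff A B).1 h
    (MvPolynomial (Fin l) A ⧸ Ideal.span {r}) (Ideal.Quotient.liftₐ _ (MvPolynomial.aeval x) hr)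
  have : Algebra.Etale A W := hW
  let y : Fin l → W := fun i => u (Ideal.Quotient.mk _ (MvPolynomial.X i))
  have hy : ∑ i, f i • y i = 0 := by
    have h0 : u (Ideal.Quotient.mk _ r) = 0 := by
      rw [Ideal.Quotient.eq_zero_iff_mem.2 (Ideal.mem_span_singleton_self r), map_zero]
    rw [← h0, ← Ideal.Quotient.mkₐ_eq_mk A, map_sum, map_sum]
    simp only [map_smul]
    rfl
  obtain ⟨κ, a, z, hyz, ha⟩ := Module.Flat.isTrivialRelation_of_sum_smul_eq_zero hy
  refine ⟨κ, a, fun j => v (z j), fun i => ?_, ha⟩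
  have := congrArg v (hyz i)
  rw [map_sum] at this
  simp only [map_smul] at this
  rw [← this]
  show x i = (v.comp u) (Ideal.Quotient.mk _ (MvPolynomial.X i))
  rw [huv]
  exact (MvPolynomial.aeval_X x i).symm

section Cancel

variable {A W₁ B : Type u} [CommRing A] [CommRing W₁] [CommRing B] [Algebra A W₁] [Algebra A B]
  [Algebra W₁ B] [IsScalarTower A W₁ B]

/-- An ind-etale algebra is ind-etale over any etale algebra mapping to it. -/
theorem isIndEtale_over_etale [Algebra.Etale A W₁] (h : EtPBC.IsIndEtale A B) :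
    EtPBC.IsIndEtale W₁ B := by
  refine (isIndEtale_iff W₁ B).2 fun D _ _ _ g => ?_
  let : Algebra A D := ((algebraMap W₁ D).comp (algebraMap A W₁)).toAlgebra
  have : IsScalarTower A W₁ D := IsScalarTower.of_algebraMap_eq' rfl
  have : Algebra.FinitePresentation A D := Algebra.FinitePresentation.trans A W₁ D
  obtain ⟨V, _, _, hV, u, v, huv⟩ := (isIndEtale_iff A B).1 h D (g.restrictScalars A)
  have : Algebra.Etale A V := hV
  let : Algebra W₁ V := (u.toRingHom.comp (algebraMap W₁ D)).toAlgebra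
  have : IsScalarTower A W₁ V := IsScalarTower.of_algebraMap_eq' (by
    ext a
    show algebraMap A V a = u (algebraMap W₁ D (algebraMap A W₁ a))
    rw [← IsScalarTower.algebraMap_apply, u.commutes])
  refine ⟨V, inferInstance, inferInstance, Algebra.Etale.of_restrictScalars A W₁ V,
    { u.toRingHom with commutes' := fun w => rfl },
    { v.toRingHom with commutes' := fun w => ?_ }, ?_⟩
  · show v (u (algebraMap W₁ D w)) = _
    rw [← AlgHom.comp_apply, huv]
    exact g.commutes w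
  · exact AlgHom.ext fun d => AlgHom.congr_fun huv d

end Cancel

/-- A map from a finitely generated subring factors through an etale algebra. -/
theorem exists_etale_through_subring {A B : Type u} [CommRing A] [CommRing B] [Algebra A B]
    (h : EtPBC.IsIndEtale A B) (A₀ : Subalgebra ℤ B) (hA₀ : A₀.FG) :
    ∃ (W₁ : Type u) (_ : CommRing W₁) (_ : Algebra A W₁) (_ : Algebra A₀ W₁) (_ : Algebra W₁ B),
      Algebra.Etale A W₁ ∧ IsScalarTower A W₁ B ∧ IsScalarTower A₀ W₁ B := by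
  have : Algebra.FiniteType ℤ A₀ := (Subalgebra.fg_iff_finiteType A₀).1 hA₀
  have : Algebra.FinitePresentation ℤ A₀ := Algebra.FinitePresentation.of_finiteType.1 inferInstance
  let g : A ⊗[ℤ] A₀ →ₐ[A] B :=
    Algebra.TensorProduct.lift (Algebra.ofId A B) A₀.val fun _ _ => Commute.all _ _
  obtain ⟨W₁, _, _, hW, u, v, huv⟩ := (isIndEtale_iff A B).1 h (A ⊗[ℤ] A₀) g
  let a₀ : Algebra A₀ W₁ :=
    (u.toRingHom.comp (Algebra.TensorProduct.includeRight (R := ℤ) (A := A) (B := A₀)).toRingHom).toAlgebra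
  let a₁ : Algebra W₁ B := v.toRingHom.toAlgebra
  refine ⟨W₁, inferInstance, inferInstance, a₀, a₁, hW,
    IsScalarTower.of_algebraMap_eq fun a => (v.commutes a).symm,
    IsScalarTower.of_algebraMap_eq fun a => ?_⟩
  show (a : B) = (v.comp u) ((1 : A) ⊗ₜ[ℤ] a)
  rw [huv]
  simp [g]

/-- Base change of an ind-etale algebra. -/
theorem isIndEtale_baseChange (A B A' : Type u) [CommRing A] [CommRing B] [CommRing A']
    [Algebra A B] [Algebra A A'] (h : EtPBC.IsIndEtale A B) :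
    EtPBC.IsIndEtale A' (A' ⊗[A] B) := by
  obtain ⟨J, _, _, D, c, hc, hP, ⟨e⟩⟩ := h
  let F : Under (CommRingCat.of A) ⥤ Under (CommRingCat.of A') :=
    CommRingCat.tensorProd (CommRingCat.of A) (CommRingCat.of A')
  have : PreservesColimit D F :=
    preservesColimit_of_natIso D (CommRingCat.tensorProdIsoPushout (CommRingCat.of A) (CommRingCat.of A')).symm
  refine ⟨J, inferInstance, inferInstance, D ⋙ F, F.mapCocone c, isColimitOfPreserves F hc,
    fun j => ?_, ⟨F.mapIso e ≪≫ ?_⟩⟩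
  · letI := (D.obj j).hom.hom.toAlgebra
    have : Algebra.Etale A (D.obj j).right := hP j
    have key : Algebra.Etale A' (A' ⊗[A] (D.obj j).right) := inferInstance
    have hh : ((D ⋙ F).obj j).hom.hom.toAlgebra =
        (inferInstance : Algebra A' (A' ⊗[A] (D.obj j).right)) := Algebra.algebra_ext _ _ fun _ => rfl
    show @Algebra.Etale A' (A' ⊗[A] (D.obj j).right) _ _ ((D ⋙ F).obj j).hom.hom.toAlgebra
    rw [hh]; exact key
  · let G : Algebra A B → Under (CommRingCat.of A') := fun i =>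
      letI := i; CommRingCat.mkUnder (CommRingCat.of A') (A' ⊗[A] B)
    have hh : (CommRingCat.ofHom (algebraMap A B)).hom.toAlgebra = ‹Algebra A B› :=
      Algebra.algebra_ext _ _ fun _ => rfl
    exact eqToIso (congrArg G hh)

/-- Composites of ind-etale maps are ind-etale. -/
theorem isIndEtale_trans {A B C : Type u} [CommRing A] [CommRing B] [CommRing C] [Algebra A B]
    [Algebra B C] [Algebra A C] [IsScalarTower A B C] (hAB : EtPBC.IsIndEtale A B)
    (hBC : EtPBC.IsIndEtale B C) : EtPBC.IsIndEtale A C := by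
  refine (isIndEtale_iff A C).2 fun C' _ _ _ g => ?_
  obtain ⟨W, _, _, hW, u, v, huv⟩ := (isIndEtale_iff B C).1 hBC (B ⊗[A] C')
    (Algebra.TensorProduct.lift (Algebra.ofId B C) g fun _ _ => Commute.all _ _)
  have : Algebra.Etale B W := hW
  obtain ⟨A₀, B₀, _, _, hfg, hB₀, ⟨e⟩⟩ := Algebra.Etale.exists_subalgebra_fg ℤ B W
  obtain ⟨W₁, _, _, _, _, hW₁, _, _⟩ := exists_etale_through_subring hAB A₀ hfg
  have hW' : Algebra.Etale A (W₁ ⊗[A₀] B₀) := Algebra.Etale.comp A W₁ (W₁ ⊗[A₀] B₀)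
  let T := (W₁ ⊗[A₀] B₀) ⊗[W₁] B
  have hT : EtPBC.IsIndEtale (W₁ ⊗[A₀] B₀) T :=
    isIndEtale_baseChange W₁ B (W₁ ⊗[A₀] B₀) (isIndEtale_over_etale hAB)
  let ε₁ : B ⊗[W₁] (W₁ ⊗[A₀] B₀) ≃ₐ[B] B ⊗[A₀] B₀ :=
    Algebra.TensorProduct.cancelBaseChange A₀ W₁ B B B₀
  let ε₂ : B ⊗[W₁] (W₁ ⊗[A₀] B₀) ≃ₐ[W₁] T := Algebra.TensorProduct.comm W₁ _ _
  let toT : B ⊗[A₀] B₀ →ₐ[A] T :=
    (ε₂.toAlgHom.restrictScalars A).comp (ε₁.symm.toAlgHom.restrictScalars A)
  let fromT : T →ₐ[A] B ⊗[A₀] B₀ :=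
    (ε₁.toAlgHom.restrictScalars A).comp (ε₂.symm.toAlgHom.restrictScalars A)
  let u₁ : C' →ₐ[A] B ⊗[A₀] B₀ := (((e.toAlgHom.comp u)).restrictScalars A).comp
    Algebra.TensorProduct.includeRight
  let g₂ : (W₁ ⊗[A₀] B₀) ⊗[A] C' →ₐ[W₁ ⊗[A₀] B₀] T :=
    Algebra.TensorProduct.lift (Algebra.ofId _ T) (toT.comp u₁) fun _ _ => Commute.all _ _
  obtain ⟨V, _, _, hV, p, q, hpq⟩ := (isIndEtale_iff _ T).1 hT _ g₂
  let : Algebra A V := ((algebraMap (W₁ ⊗[A₀] B₀) V).comp (algebraMap A (W₁ ⊗[A₀] B₀))).toAlgebra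
  have : IsScalarTower A (W₁ ⊗[A₀] B₀) V := IsScalarTower.of_algebraMap_eq' rfl
  have : Algebra.Etale (W₁ ⊗[A₀] B₀) V := hV
  let : Algebra A W := ((algebraMap B W).comp (algebraMap A B)).toAlgebra
  have : IsScalarTower A B W := IsScalarTower.of_algebraMap_eq' rfl
  refine ⟨V, inferInstance, inferInstance, Algebra.Etale.comp A (W₁ ⊗[A₀] B₀) V,
    (p.restrictScalars A).comp Algebra.TensorProduct.includeRight,
    ((v.restrictScalars A).comp ((e.symm.toAlgHom.restrictScalars A).comp fromT)).comp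
      (q.restrictScalars A), ?_⟩
  refine AlgHom.ext fun x => ?_
  show v (e.symm (ε₁ (ε₂.symm (q (p (1 ⊗ₜ x)))))) = g x
  rw [show q (p (1 ⊗ₜ x)) = g₂ (1 ⊗ₜ x) from AlgHom.congr_fun hpq _]
  simp only [g₂, Algebra.TensorProduct.lift_tmul, map_one, one_mul, AlgHom.comp_apply, toT,
    AlgHom.restrictScalars_apply, AlgEquiv.coe_toAlgHom]
  rw [AlgEquiv.symm_apply_apply, AlgEquiv.apply_symm_apply]
  show v (e.symm (e (u (1 ⊗ₜ x)))) = g x
  rw [AlgEquiv.symm_apply_apply, ← AlgHom.comp_apply, huv]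
  simp

/-- Maps between ind-etale algebras are ind-etale. -/
theorem isIndEtale_cancel {A B C : Type u} [CommRing A] [CommRing B] [CommRing C] [Algebra A B]
    [Algebra B C] [Algebra A C] [IsScalarTower A B C]
    (hB : EtPBC.IsIndEtale A B) (hC : EtPBC.IsIndEtale A C) : EtPBC.IsIndEtale B C := by
  refine (isIndEtale_iff B C).2 fun D _ _ _ g => ?_
  let P := Algebra.Presentation.ofFinitePresentation B D
  let A₀ := Algebra.adjoin ℤ P.coeffs
  have : P.HasCoeffs A₀ := ⟨by simp [A₀]⟩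
  let D₀ := P.ModelOfHasCoeffs A₀
  let e : B ⊗[A₀] D₀ ≃ₐ[B] D := P.tensorModelOfHasCoeffsEquiv A₀
  have hfg : A₀.FG := ⟨P.finite_coeffs.toFinset, by simp [A₀]⟩
  obtain ⟨W₁, _, _, _, _, hW₁, _, _⟩ := exists_etale_through_subring hB A₀ hfg
  let : Algebra W₁ C := ((algebraMap B C).comp (algebraMap W₁ B)).toAlgebra
  have : IsScalarTower W₁ B C := IsScalarTower.of_algebraMap_eq' rfl
  have : IsScalarTower A W₁ C := IsScalarTower.of_algebraMap_eq fun a => by
    rw [IsScalarTower.algebraMap_apply A B C, IsScalarTower.algebraMap_apply A W₁ B]; rfl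
  let g₀ : B ⊗[A₀] D₀ →ₐ[B] C := g.comp e.toAlgHom
  have : IsScalarTower A₀ W₁ C := IsScalarTower.of_algebraMap_eq fun a => by
    rw [IsScalarTower.algebraMap_apply A₀ B C, IsScalarTower.algebraMap_apply A₀ W₁ B]; rfl
  let g₁ : W₁ ⊗[A₀] D₀ →ₐ[W₁] C :=
    Algebra.TensorProduct.lift (Algebra.ofId W₁ C)
      ((g₀.restrictScalars A₀).comp Algebra.TensorProduct.includeRight) fun _ _ => Commute.all _ _
  obtain ⟨V, _, _, hV, u, v, huv⟩ :=
    (isIndEtale_iff W₁ C).1 (isIndEtale_over_etale hC) (W₁ ⊗[A₀] D₀) g₁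
  have : Algebra.Etale W₁ V := hV
  let : Algebra A₀ V := ((algebraMap W₁ V).comp (algebraMap A₀ W₁)).toAlgebra
  have : IsScalarTower A₀ W₁ V := IsScalarTower.of_algebraMap_eq' rfl
  have : IsScalarTower A₀ W₁ (B ⊗[W₁] V) := IsScalarTower.of_algebraMap_eq fun a => by
    show algebraMap A₀ B a ⊗ₜ[W₁] (1 : V) = algebraMap W₁ B (algebraMap A₀ W₁ a) ⊗ₜ[W₁] (1 : V)
    rw [← IsScalarTower.algebraMap_apply A₀ W₁ B]
  let d : D₀ →ₐ[A₀] B ⊗[W₁] V :=
    ((Algebra.TensorProduct.includeRight (R := W₁) (A := B) (B := V)).restrictScalars A₀).comp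
      ((u.restrictScalars A₀).comp Algebra.TensorProduct.includeRight)
  let uD : B ⊗[A₀] D₀ →ₐ[B] B ⊗[W₁] V :=
    Algebra.TensorProduct.lift (Algebra.ofId B _) d fun _ _ => Commute.all _ _
  let vV : B ⊗[W₁] V →ₐ[B] C :=
    Algebra.TensorProduct.lift (Algebra.ofId B C) v fun _ _ => Commute.all _ _
  refine ⟨B ⊗[W₁] V, inferInstance, inferInstance, (inferInstance : Algebra.Etale B (B ⊗[W₁] V)),
    uD.comp e.symm.toAlgHom, vV, ?_⟩
  have key : vV.comp uD = g₀ := by
    refine Algebra.TensorProduct.ext (Subsingleton.elim _ _) (AlgHom.ext fun x => ?_)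
    have hx := AlgHom.congr_fun huv (1 ⊗ₜ x)
    simp [vV, uD, d, g₁, g₀] at hx ⊢
    exact hx
  rw [← AlgHom.comp_assoc, key]
  exact AlgHom.ext fun x => by simp [g₀]

theorem weaklyEtale_of_isIndEtale {A B : Type u} [CommRing A] [CommRing B] [Algebra A B]
    (h : EtPBC.IsIndEtale A B) : Algebra.WeaklyEtale A B := by
  have hBB : EtPBC.IsIndEtale A (B ⊗[A] B) := isIndEtale_trans h (isIndEtale_baseChange A B B h)
  let : Algebra (B ⊗[A] B) B := (Algebra.TensorProduct.lmul' A (S := B)).toRingHom.toAlgebra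
  have : IsScalarTower A (B ⊗[A] B) B := IsScalarTower.of_algebraMap_eq fun a =>
    ((Algebra.TensorProduct.lmul' A (S := B)).commutes a).symm
  exact { flat := flat_of_isIndEtale h, flat_lmul' := flat_of_isIndEtale (isIndEtale_cancel hBB h) }

end Groth.Agent.Ind91
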