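import Groth.Agent.Ind91.Etale
import Mathlib.RingTheory.Flat.FaithfullyFlat.Algebra
import Mathlib.RingTheory.Jacobson.Ring
import Mathlib.FieldTheory.IsAlgClosed.AlgebraicClosure

universe u

open TensorProduct

namespace Groth.Agent.Ind91

variable {A : Type u} [CommRing A] {ι : Type u} (n : ι → ℕ)
  (I : ∀ i, Ideal (MvPolynomial (Fin (n i)) A))

/-- The inclusion of the variables of one factor. -/
noncomputable abbrev tensVar (i : ι) : MvPolynomial (Fin (n i)) A →ₐ[A] MvPolynomial (Σ i, Fin (n i)) A :=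
  MvPolynomial.rename (Sigma.mk (β := fun j => Fin (n j)) i)

/-- The relations of a tensor product of presented algebras. -/
noncomputable def tensRel : Ideal (MvPolynomial (Σ i, Fin (n i)) A) :=
  ⨆ i, (I i).map (tensVar n i).toRingHom

/-- The tensor product of a family of presented algebras. -/
abbrev BigTens : Type u := MvPolynomial (Σ i, Fin (n i)) A ⧸ tensRel n I

/-- The coprojections. -/
noncomputable def tensIn (i : ι) : (MvPolynomial (Fin (n i)) A ⧸ I i) →ₐ[A] BigTens n I :=
  Ideal.Quotient.liftₐ (I i) ((Ideal.Quotient.mkₐ A _).comp (tensVar n i)) fun _ hp =>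
    Ideal.Quotient.eq_zero_iff_mem.2 (le_iSup (fun i => (I i).map (tensVar n i).toRingHom) i
      (Ideal.mem_map_of_mem (tensVar n i).toRingHom hp))

theorem tensIn_X (i : ι) (k : Fin (n i)) :
    tensIn n I i (Ideal.Quotient.mk _ (MvPolynomial.X k)) =
      Ideal.Quotient.mk _ (MvPolynomial.X ⟨i, k⟩) :=
  congrArg (Ideal.Quotient.mk _) (MvPolynomial.rename_X _ _)

theorem bigTens_ext {B : Type*} [CommRing B] [Algebra A B] {f g : BigTens n I →ₐ[A] B}
    (h : ∀ i, f.comp (tensIn n I i) = g.comp (tensIn n I i)) : f = g := by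
  refine Ideal.Quotient.algHom_ext A (MvPolynomial.algHom_ext fun v => ?_)
  have := AlgHom.congr_fun (h v.1) (Ideal.Quotient.mk _ (MvPolynomial.X v.2))
  rw [AlgHom.comp_apply, AlgHom.comp_apply, tensIn_X] at this
  exact this

/-- The universal property. -/
noncomputable def tensDesc {B : Type*} [CommRing B] [Algebra A B]
    (f : ∀ i, (MvPolynomial (Fin (n i)) A ⧸ I i) →ₐ[A] B) : BigTens n I →ₐ[A] B :=
  Ideal.Quotient.liftₐ (tensRel n I)
    (MvPolynomial.aeval fun v => f v.1 (Ideal.Quotient.mk _ (MvPolynomial.X v.2)))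
    (fun x hx => by
      refine (iSup_le fun i => Ideal.map_le_iff_le_comap.2 fun p hp => ?_ :
        tensRel n I ≤ RingHom.ker (MvPolynomial.aeval fun v : Σ i, Fin (n i) =>
          f v.1 (Ideal.Quotient.mk _ (MvPolynomial.X v.2)))) hx
      rw [Ideal.mem_comap, RingHom.mem_ker]
      show (MvPolynomial.aeval _) (MvPolynomial.rename (Sigma.mk (β := fun j => Fin (n j)) i) p) = 0
      rw [MvPolynomial.aeval_rename]
      have : (MvPolynomial.aeval ((fun v : Σ i, Fin (n i) =>
          f v.1 (Ideal.Quotient.mk _ (MvPolynomial.X v.2))) ∘ Sigma.mk (β := fun j => Fin (n j)) i) :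
            MvPolynomial (Fin (n i)) A →ₐ[A] B) = (f i).comp (Ideal.Quotient.mkₐ A (I i)) :=
        MvPolynomial.algHom_ext fun k => by simp
      rw [this, AlgHom.comp_apply, Ideal.Quotient.mkₐ_eq_mk, Ideal.Quotient.eq_zero_iff_mem.2 hp,
        map_zero])

theorem tensDesc_in {B : Type*} [CommRing B] [Algebra A B]
    (f : ∀ i, (MvPolynomial (Fin (n i)) A ⧸ I i) →ₐ[A] B) (i : ι) :
    (tensDesc n I f).comp (tensIn n I i) = f i := by
  refine Ideal.Quotient.algHom_ext A (MvPolynomial.algHom_ext fun k => ?_)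
  show tensDesc n I f (tensIn n I i (Ideal.Quotient.mk _ (MvPolynomial.X k))) = _
  rw [tensIn_X]
  exact MvPolynomial.aeval_X _ _

theorem tensDesc_X {B : Type*} [CommRing B] [Algebra A B]
    (f : ∀ i, (MvPolynomial (Fin (n i)) A ⧸ I i) →ₐ[A] B) (v : Σ i, Fin (n i)) :
    tensDesc n I f (Ideal.Quotient.mk _ (MvPolynomial.X v)) =
      f v.1 (Ideal.Quotient.mk _ (MvPolynomial.X v.2)) :=
  MvPolynomial.aeval_X _ v

theorem formallyEtale_bigTens
    (h : ∀ i, Algebra.FormallyEtale A (MvPolynomial (Fin (n i)) A ⧸ I i)) :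
    Algebra.FormallyEtale A (BigTens n I) := by
  rw [Algebra.FormallyEtale.iff_comp_bijective]
  intro B _ _ J hJ
  refine ⟨fun f g hfg => bigTens_ext n I fun i => ?_, fun g => ?_⟩
  · have := h i
    refine (Algebra.FormallyEtale.comp_bijective A (MvPolynomial (Fin (n i)) A ⧸ I i) J hJ).1 ?_
    show (Ideal.Quotient.mkₐ A J).comp (f.comp _) = (Ideal.Quotient.mkₐ A J).comp (g.comp _)
    rw [← AlgHom.comp_assoc, ← AlgHom.comp_assoc]
    exact congrArg (fun k => AlgHom.comp k (tensIn n I i)) hfg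
  · choose l hl using fun i =>
      haveI := h i
      (Algebra.FormallyEtale.comp_bijective A (MvPolynomial (Fin (n i)) A ⧸ I i) J hJ).2
        (g.comp (tensIn n I i))
    exact ⟨tensDesc n I l, bigTens_ext n I fun i => by
      rw [AlgHom.comp_assoc, tensDesc_in]; exact hl i⟩

theorem etale_bigTens [Finite ι] (h : ∀ i, Algebra.Etale A (MvPolynomial (Fin (n i)) A ⧸ I i))
    (hfg : ∀ i, (I i).FG) : Algebra.Etale A (BigTens n I) where
  formallyEtale := formallyEtale_bigTens n I fun i => (h i).formallyEtale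
  finitePresentation := Algebra.FinitePresentation.quotient
    (Submodule.fg_iSup _ fun i => (hfg i).map _)

/-- The comparison map from a finite sub-product. -/
noncomputable def tensSub (F : Finset ι) :
    BigTens (fun i : F => n i) (fun i : F => I i) →ₐ[A] BigTens n I :=
  tensDesc _ _ fun i : F => tensIn n I i

theorem tensSub_X (F : Finset ι) (v : Σ i : F, Fin (n i)) :
    tensSub n I F (Ideal.Quotient.mk _ (MvPolynomial.X v)) =
      Ideal.Quotient.mk _ (MvPolynomial.X ⟨v.1, v.2⟩) :=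
  (MvPolynomial.aeval_X _ _).trans (tensIn_X n I v.1 v.2)

theorem exists_tensSub (x : BigTens n I) : ∃ F : Finset ι, x ∈ Set.range (tensSub n I F) := by
  classical
  obtain ⟨p, rfl⟩ := Ideal.Quotient.mk_surjective x
  obtain ⟨s, q, rfl⟩ := MvPolynomial.exists_finset_rename p
  let F : Finset ι := s.image Sigma.fst
  let w : {v // v ∈ s} → Σ i : F, Fin (n i) := fun v =>
    ⟨⟨v.1.1, Finset.mem_image_of_mem Sigma.fst v.2⟩, v.1.2⟩
  refine ⟨F, Ideal.Quotient.mk _ (MvPolynomial.rename w q), ?_⟩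
  have : (tensSub n I F).comp ((Ideal.Quotient.mkₐ A _).comp (MvPolynomial.rename w)) =
      (Ideal.Quotient.mkₐ A (tensRel n I)).comp (MvPolynomial.rename (Subtype.val : {v // v ∈ s} → _)) :=
    MvPolynomial.algHom_ext fun v => by
      simp only [AlgHom.comp_apply, MvPolynomial.rename_X, Ideal.Quotient.mkₐ_eq_mk, tensSub_X]
      rfl
  exact AlgHom.congr_fun this q

/-- Restriction maps between finite sub-products. -/
noncomputable def tensIncl {F G : Finset ι} (hFG : F ⊆ G) :
    BigTens (fun i : F => n i) (fun i : F => I i) →ₐ[A] BigTens (fun i : G => n i) (fun i : G => I i) :=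
  tensDesc _ _ fun i : F => tensIn (fun i : G => n i) (fun i : G => I i) ⟨i, hFG i.2⟩

theorem tensSub_incl {F G : Finset ι} (hFG : F ⊆ G) :
    (tensSub n I G).comp (tensIncl n I hFG) = tensSub n I F :=
  bigTens_ext _ _ fun i => by
    rw [AlgHom.comp_assoc, tensIncl, tensDesc_in, tensSub, tensDesc_in, tensSub, tensDesc_in]

theorem exists_tensIncl_eq_zero {F : Finset ι} (x : BigTens (fun i : F => n i) (fun i : F => I i))
    (hx : tensSub n I F x = 0) : ∃ (G : Finset ι) (hFG : F ⊆ G), tensIncl n I hFG x = 0 := by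
  classical
  obtain ⟨p, rfl⟩ := Ideal.Quotient.mk_surjective x
  let emb : (Σ i : F, Fin (n i)) → Σ i, Fin (n i) := fun v => ⟨v.1, v.2⟩
  have hemb : (tensSub n I F).comp (Ideal.Quotient.mkₐ A _) =
      (Ideal.Quotient.mkₐ A (tensRel n I)).comp (MvPolynomial.rename emb) :=
    MvPolynomial.algHom_ext fun v => by
      simp only [AlgHom.comp_apply, MvPolynomial.rename_X, Ideal.Quotient.mkₐ_eq_mk, tensSub_X]
      rfl
  have hp : MvPolynomial.rename emb p ∈ tensRel n I :=
    Ideal.Quotient.eq_zero_iff_mem.1 ((AlgHom.congr_fun hemb p).symm.trans hx)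
  obtain ⟨s, hs⟩ := Submodule.exists_finset_of_mem_iSup _ hp
  refine ⟨F ∪ s, Finset.subset_union_left, ?_⟩
  let r : MvPolynomial (Σ i, Fin (n i)) A →ₐ[A]
      BigTens (fun i : ↥(F ∪ s) => n i) (fun i : ↥(F ∪ s) => I i) :=
    MvPolynomial.aeval fun v => if h : v.1 ∈ F ∪ s then
      tensIn (fun i : ↥(F ∪ s) => n i) (fun i : ↥(F ∪ s) => I i) ⟨v.1, h⟩
        (Ideal.Quotient.mk _ (MvPolynomial.X v.2)) else 0
  have hr : r.comp (MvPolynomial.rename emb) =
      (tensIncl n I (Finset.subset_union_left (s₂ := s))).comp (Ideal.Quotient.mkₐ A _) :=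
    MvPolynomial.algHom_ext fun v => by
      simp only [AlgHom.comp_apply, MvPolynomial.rename_X, r, MvPolynomial.aeval_X, emb,
        dif_pos (Finset.mem_union_left s v.1.2)]
      rw [Ideal.Quotient.mkₐ_eq_mk, tensIncl, tensDesc_X]
  have hle : (⨆ i ∈ s, (I i).map (tensVar n i).toRingHom) ≤ RingHom.ker r.toRingHom := by
    refine iSup₂_le fun i hi => Ideal.map_le_iff_le_comap.2 fun q hq => ?_
    rw [Ideal.mem_comap, RingHom.mem_ker]
    have : r.comp (tensVar n i) =
        (tensIn (fun i : ↥(F ∪ s) => n i) (fun i : ↥(F ∪ s) => I i)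
          ⟨i, Finset.mem_union_right F hi⟩).comp (Ideal.Quotient.mkₐ A (I i)) :=
      MvPolynomial.algHom_ext fun k => by
        simp only [AlgHom.comp_apply, MvPolynomial.rename_X, r, MvPolynomial.aeval_X,
          dif_pos (Finset.mem_union_right F hi)]
        rfl
    refine (AlgHom.congr_fun this q).trans ?_
    rw [AlgHom.comp_apply, Ideal.Quotient.mkₐ_eq_mk, Ideal.Quotient.eq_zero_iff_mem.2 hq, map_zero]
  have h0 : r (MvPolynomial.rename emb p) = 0 := hle hs
  exact (AlgHom.congr_fun hr p).symm.trans h0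

theorem isIndEtale_bigTens (h : ∀ i, Algebra.Etale A (MvPolynomial (Fin (n i)) A ⧸ I i))
    (hfg : ∀ i, (I i).FG) : EtPBC.IsIndEtale A (BigTens n I) := by
  classical
  refine (isIndEtale_iff A _).2 fun C _ _ hC g => ?_
  obtain ⟨m, f, hf, r, hr⟩ := hC.out
  choose Fk hFk using fun k : Fin m => exists_tensSub n I (g (f (MvPolynomial.X k)))
  choose xk hxk using hFk
  let F : Finset ι := Finset.univ.biUnion Fk
  let ψ : MvPolynomial (Fin m) A →ₐ[A] BigTens (fun i : F => n i) (fun i : F => I i) :=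
    MvPolynomial.aeval fun k =>
      tensIncl n I (Finset.subset_biUnion_of_mem Fk (Finset.mem_univ k)) (xk k)
  have hψ : (tensSub n I F).comp ψ = g.comp f := MvPolynomial.algHom_ext fun k => by
    simp only [ψ, AlgHom.comp_apply, MvPolynomial.aeval_X]
    rw [← AlgHom.comp_apply (tensSub n I F), tensSub_incl, hxk]
  have hz : ∀ p : r, tensSub n I F (ψ p) = 0 := fun ⟨p, hp⟩ => by
    rw [← AlgHom.comp_apply, hψ, AlgHom.comp_apply,
      show f p = 0 from (hr ▸ Ideal.subset_span hp : p ∈ RingHom.ker f.toRingHom), map_zero]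
  choose Gp hGp hGz using fun p : r => exists_tensIncl_eq_zero n I (ψ p) (hz p)
  let G : Finset ι := F ∪ Finset.univ.biUnion Gp
  have hFG : F ⊆ G := Finset.subset_union_left
  have hincl : ∀ {F₁ F₂ F₃ : Finset ι} (h12 : F₁ ⊆ F₂) (h23 : F₂ ⊆ F₃),
      (tensIncl n I h23).comp (tensIncl n I h12) = tensIncl n I (h12.trans h23) :=
    fun h12 h23 => bigTens_ext _ _ fun i => by
      simp only [AlgHom.comp_assoc, tensIncl, tensDesc_in]
  let χ := (tensIncl n I hFG).comp ψ
  have hker : RingHom.ker f.toRingHom ≤ RingHom.ker χ.toRingHom := by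
    rw [← hr, Ideal.span_le]
    intro p hp
    have hsub : Gp ⟨p, hp⟩ ⊆ G :=
      (Finset.subset_biUnion_of_mem Gp (Finset.mem_univ _)).trans Finset.subset_union_right
    show (tensIncl n I hFG) (ψ p) = 0
    rw [← hincl (hGp ⟨p, hp⟩) hsub, AlgHom.comp_apply, hGz ⟨p, hp⟩, map_zero]
  have : Algebra.Etale A (BigTens (fun i : G => n i) (fun i : G => I i)) :=
    etale_bigTens _ _ (fun i => h i) fun i => hfg i
  refine ⟨BigTens (fun i : G => n i) (fun i : G => I i), inferInstance, inferInstance, this,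
    AlgHom.liftOfSurjective f hf χ hker, tensSub n I G, ?_⟩
  rw [← AlgHom.cancel_right hf, AlgHom.comp_assoc, AlgHom.liftOfSurjective_comp, ← hψ, ← AlgHom.comp_assoc]
  rw [tensSub_incl]

/-- A nontrivial algebra of finite type over an algebraically closed field has a rational point. -/
theorem exists_point {K R : Type u} [Field K] [IsAlgClosed K] [CommRing R] [Algebra K R]
    [Algebra.FiniteType K R] [Nontrivial R] : Nonempty (R →ₐ[K] K) := by
  obtain ⟨m, hm⟩ := Ideal.exists_maximal R
  let := Ideal.Quotient.field m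
  have : Module.Finite K (R ⧸ m) := finite_of_finite_type_of_isJacobsonRing K (R ⧸ m)
  exact ⟨(AlgEquiv.ofBijective (Algebra.ofId K (R ⧸ m))
    IsAlgClosed.algebraMap_bijective_of_isIntegral).symm.toAlgHom.comp (Ideal.Quotient.mkₐ K m)⟩

theorem faithfullyFlat_bigTens (h : ∀ i, Algebra.Etale A (MvPolynomial (Fin (n i)) A ⧸ I i))
    (hfg : ∀ i, (I i).FG) (hff : ∀ i, Module.FaithfullyFlat A (MvPolynomial (Fin (n i)) A ⧸ I i)) :
    Module.FaithfullyFlat A (BigTens n I) := by
  have := flat_of_isIndEtale (isIndEtale_bigTens n I h hfg)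
  refine Module.FaithfullyFlat.of_comap_surjective fun x => ?_
  let K := AlgebraicClosure x.asIdeal.ResidueField
  have hpt : ∀ i, Nonempty ((MvPolynomial (Fin (n i)) A ⧸ I i) →ₐ[A] K) := fun i => by
    have := hff i
    have := (h i).finitePresentation
    have : Nontrivial (K ⊗[A] (MvPolynomial (Fin (n i)) A ⧸ I i)) :=
      Module.FaithfullyFlat.rTensor_nontrivial A _ K
    obtain ⟨φ⟩ := exists_point (K := K) (R := K ⊗[A] (MvPolynomial (Fin (n i)) A ⧸ I i))
    exact ⟨(φ.restrictScalars A).comp Algebra.TensorProduct.includeRight⟩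
  let φ := fun i => (hpt i).some
  refine ⟨⟨RingHom.ker (tensDesc n I φ), RingHom.ker_isPrime _⟩, PrimeSpectrum.ext ?_⟩
  show (RingHom.ker (tensDesc n I φ)).comap (algebraMap A (BigTens n I)) = x.asIdeal
  refine Eq.trans ?_ (Ideal.ker_algebraMap_residueField x.asIdeal)
  ext a
  rw [Ideal.mem_comap, RingHom.mem_ker, AlgHom.commutes, RingHom.mem_ker,
    IsScalarTower.algebraMap_apply A x.asIdeal.ResidueField K, map_eq_zero]

end Groth.Agent.Ind91
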