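import Groth.Agent.Ind91.Zar
import Mathlib.RingTheory.Localization.AtPrime.Basic
import Mathlib.RingTheory.Localization.Away.Basic

universe u

namespace Groth.Agent.Ind91

variable {A B : Type u} [CommRing A] [CommRing B] [Algebra A B]

/-- Elementwise criterion for bijectivity of the local map. -/
theorem bijective_localRingHom (q : Ideal B) [q.IsPrime]
    (hs : ∀ b : B, ∃ a g : A, ∃ h : B, algebraMap A B g ∉ q ∧ h ∉ q ∧
      h * (algebraMap A B g * b - algebraMap A B a) = 0)
    (hi : ∀ (a : A) (h : B), h ∉ q → h * algebraMap A B a = 0 →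
      ∃ g : A, algebraMap A B g ∉ q ∧ g * a = 0) :
    Function.Bijective (Localization.localRingHom (q.comap (algebraMap A B)) q (algebraMap A B) rfl) := by
  set p := q.comap (algebraMap A B)
  set L := Localization.localRingHom p q (algebraMap A B) rfl
  have hb : ∀ b : B, ∃ y, L y = algebraMap B (Localization.AtPrime q) b := fun b => by
    obtain ⟨a, g, h, hg, hh, he⟩ := hs b
    refine ⟨IsLocalization.mk' _ a (⟨g, hg⟩ : p.primeCompl), ?_⟩
    rw [Localization.localRingHom_mk', IsLocalization.mk'_eq_iff_eq_mul, ← map_mul]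
    rw [IsLocalization.eq_iff_exists q.primeCompl]
    exact ⟨⟨h, hh⟩, by linear_combination -he⟩
  refine ⟨(injective_iff_map_eq_zero L).2 fun x hx => ?_, fun z => ?_⟩
  · obtain ⟨a, s, rfl⟩ := IsLocalization.exists_mk'_eq p.primeCompl x
    rw [Localization.localRingHom_mk', IsLocalization.mk'_eq_zero_iff] at hx
    obtain ⟨⟨h, hh⟩, hh0⟩ := hx
    obtain ⟨g, hg, hga⟩ := hi a h hh hh0
    exact (IsLocalization.mk'_eq_zero_iff _ _).2 ⟨⟨g, hg⟩, hga⟩
  · obtain ⟨b, ⟨s, hs'⟩, rfl⟩ := IsLocalization.exists_mk'_eq q.primeCompl z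
    obtain ⟨y, hy⟩ := hb b
    obtain ⟨w, hw⟩ := hb s
    have hu : IsUnit w := by
      refine (isUnit_map_iff L w).1 ?_
      rw [hw]; exact IsLocalization.map_units _ (⟨s, hs'⟩ : q.primeCompl)
    obtain ⟨w, rfl⟩ := hu
    refine ⟨y * ↑w⁻¹, ?_⟩
    refine (IsLocalization.eq_mk'_iff_mul_eq.2 ?_)
    rw [map_mul, ← hw, mul_assoc, ← map_mul, Units.inv_mul, map_one, mul_one, hy]

/-- Ind-Zariski algebras identify local rings. -/
theorem identifiesLocalRings_of_isIndZariski (h : EtPBC.IsIndZariski A B) :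
    EtPBC.IdentifiesLocalRings A B := by
  intro q
  have key : ∀ (W : Type u) [CommRing W] [Algebra A W] [Algebra.IsLocalIso A W] (Q : Ideal W) [Q.IsPrime],
      (∀ w : W, ∃ a g : A, ∃ h : W, algebraMap A W g ∉ Q ∧ h ∉ Q ∧
        h * (algebraMap A W g * w - algebraMap A W a) = 0) ∧
      (∀ (a : A) (h : W), h ∉ Q → h * algebraMap A W a = 0 →
        ∃ g : A, algebraMap A W g ∉ Q ∧ g * a = 0) := by
    intro W _ _ _ Q _
    obtain ⟨c, hc, hstd⟩ := Algebra.IsLocalIso.exists_notMem_isStandardOpenImmersion (R := A) Q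
    obtain ⟨f, hf⟩ := hstd.exists_away
    have hnot : ∀ (g : A), IsUnit (algebraMap A (Localization.Away c) g) → algebraMap A W g ∉ Q := by
      intro g hu hgQ
      rw [IsScalarTower.algebraMap_apply A W (Localization.Away c)] at hu
      have hd : Disjoint (Submonoid.powers c : Set W) Q :=
        Set.disjoint_left.2 fun x ⟨k, hk⟩ hkQ =>
          hc (‹Q.IsPrime›.mem_of_pow_mem k (by rw [show c ^ k = x from hk]; exact hkQ))
      exact (IsLocalization.isPrime_of_isPrime_disjoint (Submonoid.powers c) (Localization.Away c) Q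
        ‹Q.IsPrime› hd).ne_top (Ideal.eq_top_of_isUnit_mem _ (Ideal.mem_map_of_mem _ hgQ) hu)
    have hfu : ∀ k, IsUnit (algebraMap A (Localization.Away c) (f ^ k)) := fun k => by
      rw [map_pow]; exact (IsLocalization.Away.algebraMap_isUnit f).pow k
    refine ⟨fun w => ?_, fun a h hh hha => ?_⟩
    · obtain ⟨a, y, hak⟩ := IsLocalization.exists_mk'_eq (Submonoid.powers f)
        (algebraMap W (Localization.Away c) w)
      obtain ⟨k, hk⟩ := y.2
      have h1 : algebraMap W (Localization.Away c) (algebraMap A W (y : A) * w - algebraMap A W a) = 0 := by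
        rw [map_sub, map_mul, ← IsScalarTower.algebraMap_apply, ← IsScalarTower.algebraMap_apply,
          ← hak]
        exact sub_eq_zero.2 (IsLocalization.mk'_spec' (Localization.Away c) a y)
      obtain ⟨⟨z, hz⟩, hm⟩ := (IsLocalization.map_eq_zero_iff (Submonoid.powers c) _ _).1 h1
      obtain ⟨m, rfl⟩ := hz
      exact ⟨a, y, c ^ m, hnot _ ((show f ^ k = (y : A) from hk) ▸ hfu k), fun h' => hc (‹Q.IsPrime›.mem_of_pow_mem m h'), hm⟩
    · obtain ⟨a', y, hak⟩ := IsLocalization.exists_mk'_eq (Submonoid.powers f)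
        (algebraMap W (Localization.Away c) h)
      obtain ⟨k, hk⟩ := y.2
      have h1 : algebraMap A (Localization.Away c) (a' * a) = 0 := by
        have h0 := congrArg (algebraMap W (Localization.Away c)) hha
        rw [map_zero, map_mul, ← IsScalarTower.algebraMap_apply, ← hak] at h0
        rw [map_mul, ← IsLocalization.mk'_spec' (Localization.Away c) a' y, mul_assoc, h0, mul_zero]
      obtain ⟨⟨z, hz⟩, hm⟩ := (IsLocalization.map_eq_zero_iff (Submonoid.powers f) _ _).1 h1
      obtain ⟨m, rfl⟩ := hz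
      refine ⟨f ^ m * a', ?_, by rw [mul_assoc]; exact hm⟩
      rw [map_mul]
      refine ‹Q.IsPrime›.mul_notMem (hnot _ (hfu m)) fun ha' => ?_
      have hprod : algebraMap W (Localization.Away c) (algebraMap A W (y : A) * h - algebraMap A W a') = 0 := by
        rw [map_sub, map_mul, ← IsScalarTower.algebraMap_apply, ← IsScalarTower.algebraMap_apply,
          ← hak]
        exact sub_eq_zero.2 (IsLocalization.mk'_spec' (Localization.Away c) a' y)
      obtain ⟨⟨z, hz⟩, hm'⟩ := (IsLocalization.map_eq_zero_iff (Submonoid.powers c) _ _).1 hprod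
      obtain ⟨m', rfl⟩ := hz
      have hmem := (‹Q.IsPrime›.mem_or_mem (show c ^ m' * (algebraMap A W (y : A) * h - algebraMap A W a') ∈ Q
        by rw [hm']; exact Q.zero_mem)).resolve_left fun h' => hc (‹Q.IsPrime›.mem_of_pow_mem m' h')
      exact (‹Q.IsPrime›.mem_or_mem (by simpa using add_mem hmem ha')).elim (hnot _ ((show f ^ k = (y : A) from hk) ▸ hfu k)) hh
  refine bijective_localRingHom q.asIdeal (fun b => ?_) fun a hb hhb h0 => ?_
  · obtain ⟨W, _, _, hW, u, v, huv⟩ := (isIndZariski_iff A B).1 h (MvPolynomial (Fin 1) A)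
      (MvPolynomial.aeval fun _ => b)
    haveI : Algebra.IsLocalIso A W := hW
    obtain ⟨a, g, hh, hg, hhn, he⟩ := (key W (q.asIdeal.comap v)).1 (u (MvPolynomial.X 0))
    have hv : v (u (MvPolynomial.X 0)) = b :=
      (AlgHom.congr_fun huv _).trans (MvPolynomial.aeval_X _ _)
    refine ⟨a, g, v hh, fun h' => hg (show v (algebraMap A W g) ∈ q.asIdeal by rwa [AlgHom.commutes]),
      hhn, ?_⟩
    have := congrArg v he
    rwa [map_mul, map_sub, map_mul, AlgHom.commutes, AlgHom.commutes, hv, map_zero] at this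
  · let r : MvPolynomial (Fin 1) A := MvPolynomial.X 0 * MvPolynomial.C a
    have : Algebra.FinitePresentation A (MvPolynomial (Fin 1) A ⧸ Ideal.span {r}) :=
      Algebra.FinitePresentation.quotient (Submodule.fg_span (Set.finite_singleton _))
    obtain ⟨W, _, _, hW, u, v, huv⟩ := (isIndZariski_iff A B).1 h (MvPolynomial (Fin 1) A ⧸ Ideal.span {r})
      (Ideal.Quotient.liftₐ _ (MvPolynomial.aeval fun _ => hb) fun x hx => by
        refine (Ideal.span_le (I := RingHom.ker (MvPolynomial.aeval fun _ : Fin 1 => hb))).2 ?_ hx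
        rintro _ rfl
        show MvPolynomial.aeval _ (MvPolynomial.X 0 * MvPolynomial.C a) = 0
        rw [map_mul, MvPolynomial.aeval_X, MvPolynomial.aeval_C]
        exact h0)
    haveI : Algebra.IsLocalIso A W := hW
    let w := u (Ideal.Quotient.mk _ (MvPolynomial.X 0))
    have hv : v w = hb := (AlgHom.congr_fun huv _).trans (MvPolynomial.aeval_X _ _)
    obtain ⟨g, hg, hga⟩ := (key W (q.asIdeal.comap v)).2 a w
      (fun h' => hhb (hv ▸ (h' : v w ∈ q.asIdeal))) (by
        rw [← u.commutes a, ← map_mul]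
        have h00 : Ideal.Quotient.mk (Ideal.span {r}) r = 0 :=
          Ideal.Quotient.eq_zero_iff_mem.2 (Ideal.subset_span rfl)
        exact (congrArg u h00).trans (map_zero u))
    exact ⟨g, fun h' => hg (show v (algebraMap A W g) ∈ q.asIdeal by rwa [AlgHom.commutes]), hga⟩

end Groth.Agent.Ind91
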