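import Groth.Agent.Ind91.Loc
import Groth.Agent.Ind91.Zar

universe u

namespace Groth.Agent.Ind91

/-- Localizations are ind-Zariski. -/
theorem isIndZariski_of_isLocalization (A B : Type u) [CommRing A] [CommRing B] [Algebra A B]
    (S : Submonoid A) [IsLocalization S B] : EtPBC.IsIndZariski A B := by
  refine (isIndZariski_iff A B).2 fun C _ _ _ g => ?_
  obtain ⟨T, -, u, v, h⟩ := exists_away_factor S g
  haveI := Algebra.IsStandardOpenImmersion.mk (R := A) (S := Localization.Away T) ⟨T, inferInstance⟩
  exact ⟨Localization.Away T, inferInstance, inferInstance, inferInstance, u, v, h⟩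

end Groth.Agent.Ind91
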